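import Cfsg.Agent.Mathieu.Tables

/-!
# Elements of `Cfsg.M24` carrying one permutation to a power of itself

A depth first search over the images of cycle representatives, pruned by code words and by
invariant sets, shows that a given list of tables contains every such element.
-/

set_option autoImplicit false

namespace CfsgLib.SporadicOut

open Cfsg CfsgLib.Mathieu

/-- `n` steps of a table. -/
def iterApp (a : ℕ) : ℕ → ℕ → ℕ
  | 0, i => i
  | n + 1, i => app a (iterApp a n i)

/-- The pairs `(a^j r, (a^k)^j v)`, `j < len`. -/
def orbitPairs (a k r v : ℕ) : ℕ → List (ℕ × ℕ)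
  | 0 => []
  | j + 1 => (iterApp a j r, iterApp a (j * k) v) :: orbitPairs a k r v j

/-- Mask of the domain of a partial map. -/
def domMask : List (ℕ × ℕ) → ℕ
  | [] => 0
  | q :: asg => 2 ^ q.1 ||| domMask asg

/-- Image of a mask under a partial map. -/
def imgMask : List (ℕ × ℕ) → ℕ → ℕ
  | [], _ => 0
  | q :: asg, W => (if W.testBit q.1 then 2 ^ q.2 else 0) ||| imgMask asg W

/-- A level: representative, cycle length, code words to test, invariant sets to test. -/
abbrev Level := ℕ × ℕ × List ℕ × List ℕ

/-- The tests at one level. -/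
def levelTests (codeW fixW : List ℕ) (asg : List (ℕ × ℕ)) : Bool :=
  codeW.all (fun W => isCode (imgMask asg W)) && fixW.all (fun W => imgMask asg W == W)

/-- Static conditions on the levels: representatives are new, masks lie in the domains, code words
are code words, invariant sets are among those allowed. -/
def levelsOK (fixes : List ℕ) (a : ℕ) : List Level → ℕ → Bool
  | [], dom => dom == 16777215
  | (r, len, codeW, fixW) :: rest, dom =>
    decide (r < 24) && !(dom.testBit r) &&
      (codeW.all fun W => isCode W && (W &&& (dom ||| domMask (orbitPairs a 1 r r len))) == W) &&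
      (fixW.all fun W => fixes.contains W &&
        (W &&& (dom ||| domMask (orbitPairs a 1 r r len))) == W) &&
      levelsOK fixes a rest (dom ||| domMask (orbitPairs a 1 r r len))

/-- The search: every surviving total map is one of the listed tables. -/
def search (a k : ℕ) (L : List ℕ) : List Level → List (ℕ × ℕ) → Bool
  | [], asg => L.any fun t => asg.all fun q => app t q.1 == q.2
  | (r, len, codeW, fixW) :: rest, asg => allBelow 24 fun v =>
    asg.any (fun q => q.2 == v) || !(levelTests codeW fixW (orbitPairs a k r v len ++ asg)) ||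
      search a k L rest (orbitPairs a k r v len ++ asg)

section

variable {a k : ℕ} {σ g : Equiv.Perm GolayPt}

/-- The partial map agrees with `g`. -/
def Agrees (g : Equiv.Perm GolayPt) (asg : List (ℕ × ℕ)) : Prop :=
  ∀ q ∈ asg, q.1 < 24 ∧ idx (g (pt q.1)) = q.2

theorem iterApp_eq (ha : Rep enc σ a) (p : GolayPt) :
    ∀ j, iterApp a j (idx p) = idx ((σ ^ j) p)
  | 0 => rfl
  | j + 1 => by
    rw [iterApp, iterApp_eq ha p j, pow_succ']
    exact ha _

theorem agrees_orbitPairs (ha : Rep enc σ a) (hg : g * σ = σ ^ k * g) {r v : ℕ} (hr : r < 24)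
    (hv : idx (g (pt r)) = v) : ∀ len, Agrees g (orbitPairs a k r v len)
  | 0 => by simp [orbitPairs, Agrees]
  | j + 1 => by
    intro q hq
    rcases List.mem_cons.1 hq with rfl | hq
    · have e1 : iterApp a j r = idx ((σ ^ j) (pt r)) := by rw [← iterApp_eq ha, idx_pt hr]
      have hc : g * σ ^ j = (σ ^ k) ^ j * g := (SemiconjBy.pow_right hg j).eq
      refine ⟨by rw [e1]; exact idx_lt _, ?_⟩
      rw [e1, pt_idx, ← hv, iterApp_eq ha, Nat.mul_comm, pow_mul]
      exact congrArg idx (DFunLike.congr_fun hc (pt r))
    · exact agrees_orbitPairs ha hg hr hv j q hq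

theorem testBit_domMask {i : ℕ} :
    ∀ asg : List (ℕ × ℕ), (domMask asg).testBit i = true ↔ ∃ q ∈ asg, q.1 = i
  | [] => by simp [domMask]
  | q :: asg => by
    rw [domMask, Nat.testBit_or, Bool.or_eq_true, testBit_domMask asg, Nat.testBit_two_pow]
    simp

theorem testBit_imgMask {W j : ℕ} :
    ∀ asg : List (ℕ × ℕ), (imgMask asg W).testBit j = true ↔
      ∃ q ∈ asg, W.testBit q.1 = true ∧ q.2 = j
  | [] => by simp [imgMask]
  | q :: asg => by
    rw [imgMask, Nat.testBit_or, Bool.or_eq_true, testBit_imgMask asg]
    constructor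
    · rintro (h | ⟨q', hq', h⟩)
      · split at h
        · rename_i hW
          rw [Nat.testBit_two_pow] at h
          exact ⟨q, List.mem_cons_self, hW, by simpa using h⟩
        · simp at h
      · exact ⟨q', List.mem_cons_of_mem _ hq', h⟩
    · rintro ⟨q', hq', hW, rfl⟩
      rcases List.mem_cons.1 hq' with rfl | hq'
      · left; rw [if_pos hW]; simp
      · exact Or.inr ⟨q', hq', hW, rfl⟩

theorem orbitPairs_dom (a k r v : ℕ) :
    ∀ len, domMask (orbitPairs a k r v len) = domMask (orbitPairs a 1 r r len)
  | 0 => rfl
  | j + 1 => by simp only [orbitPairs, domMask, orbitPairs_dom a k r v j]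

theorem domMask_append : ∀ A B : List (ℕ × ℕ), domMask (A ++ B) = domMask A ||| domMask B
  | [], B => by simp [domMask]
  | q :: A, B => by
    rw [List.cons_append, domMask, domMask, domMask_append A B, Nat.lor_assoc]

theorem image_of_agrees {asg : List (ℕ × ℕ)} (hg : Agrees g asg) {W : ℕ}
    (hW : W &&& domMask asg = W) : (setOf24 W).image g = setOf24 (imgMask asg W) := by
  ext p
  simp only [Finset.mem_image, mem_setOf24, testBit_imgMask]
  constructor
  · rintro ⟨x, hx, rfl⟩
    have hd : (domMask asg).testBit (idx x) = true := by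
      have h := hx
      rw [← hW, Nat.testBit_and, Bool.and_eq_true] at h
      exact h.2
    obtain ⟨q, hq, he⟩ := (testBit_domMask asg).1 hd
    obtain ⟨-, h2⟩ := hg q hq
    rw [he, pt_idx] at h2
    exact ⟨q, hq, by rwa [he], h2.symm⟩
  · rintro ⟨q, hq, hWq, he⟩
    obtain ⟨h1, h2⟩ := hg q hq
    exact ⟨pt q.1, by rwa [idx_pt h1], idx_injective (by rw [h2, he])⟩

theorem search_sound (ha : Rep enc σ a) (hg : g * σ = σ ^ k * g) (hgM : g ∈ M24) (L fixes : List ℕ)
    (hfix : ∀ W ∈ fixes, (setOf24 W).image g = setOf24 W ∧ W < 2 ^ 24) :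
    ∀ (levels : List Level) (asg : List (ℕ × ℕ)), Agrees g asg →
      levelsOK fixes a levels (domMask asg) = true → search a k L levels asg = true →
      ∃ t ∈ L, Rep enc g t
  | [], asg, hag, hok, hs => by
    simp only [levelsOK, beq_iff_eq] at hok
    simp only [search, List.any_eq_true, List.all_eq_true, beq_iff_eq] at hs
    obtain ⟨t, ht, htq⟩ := hs
    refine ⟨t, ht, fun p => ?_⟩
    have hd : (domMask asg).testBit (idx p) = true := by
      rw [hok, ← mem_setOf24, setOf24_full]; exact Finset.mem_univ p
    obtain ⟨q, hq, he⟩ := (testBit_domMask asg).1 hd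
    have h1 := htq q hq
    obtain ⟨-, h2⟩ := hag q hq
    rw [he, pt_idx] at h2
    rw [he] at h1
    exact h1.trans h2.symm
  | (r, len, codeW, fixW) :: rest, asg, hag, hok, hs => by
    simp only [levelsOK, Bool.and_eq_true, decide_eq_true_eq, Bool.not_eq_true', List.all_eq_true,
      beq_iff_eq] at hok
    obtain ⟨⟨⟨⟨hr, hnew⟩, hcode⟩, hfixW⟩, hrest⟩ := hok
    simp only [search, allBelow_iff, Bool.or_eq_true, List.any_eq_true, beq_iff_eq,
      Bool.not_eq_true'] at hs
    have hag' : Agrees g (orbitPairs a k r (idx (g (pt r))) len ++ asg) := fun q hq =>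
      (List.mem_append.1 hq).elim (agrees_orbitPairs ha hg hr rfl len q) (hag q)
    have hdom : domMask (orbitPairs a k r (idx (g (pt r))) len ++ asg) =
        domMask asg ||| domMask (orbitPairs a 1 r r len) := by
      rw [domMask_append, orbitPairs_dom, Nat.lor_comm]
    rcases hs _ (idx_lt (g (pt r))) with (⟨q, hq, he⟩ | ht) | hrec
    · obtain ⟨h1, h2⟩ := hag q hq
      have hqr : q.1 = r := by
        have := g.injective (idx_injective (h2.trans he))
        rw [← idx_pt h1, this, idx_pt hr]
      have := (testBit_domMask asg).2 ⟨q, hq, hqr⟩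
      rw [this] at hnew
      simp at hnew
    · exfalso
      have : levelTests codeW fixW (orbitPairs a k r (idx (g (pt r))) len ++ asg) = true := by
        simp only [levelTests, Bool.and_eq_true, List.all_eq_true, beq_iff_eq]
        refine ⟨fun W hW => ?_, fun W hW => ?_⟩
        · obtain ⟨hWc, hWd⟩ := hcode W hW
          have hi := image_of_agrees hag' (W := W) (by rw [hdom]; exact hWd)
          have hm := setSystemAut_image_mem hgM (setOf24_mem_supports hWc)
          rw [hi] at hm
          have hlt : imgMask (orbitPairs a k r (idx (g (pt r))) len ++ asg) W < 2 ^ 24 := by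
            refine Nat.lt_pow_two_of_testBit _ fun i hi' => ?_
            by_contra hne
            rw [Bool.not_eq_false, testBit_imgMask] at hne
            obtain ⟨q, hq, -, rfl⟩ := hne
            obtain ⟨-, h2⟩ := hag' q hq
            have := idx_lt (g (pt q.1))
            omega
          have hc := (mem_supports_iff _).1 hm
          rwa [setOf24_inj (maskOf_lt _) hlt (setOf24_maskOf _)] at hc
        · obtain ⟨hWf, hWd⟩ := hfixW W hW
          obtain ⟨hWi, hWlt⟩ := hfix W (List.contains_iff_mem.1 hWf)
          have hi := image_of_agrees hag' (W := W) (by rw [hdom]; exact hWd)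
          refine setOf24_inj ?_ hWlt (hi.symm.trans hWi)
          refine Nat.lt_pow_two_of_testBit _ fun i hi' => ?_
          by_contra hne
          rw [Bool.not_eq_false, testBit_imgMask] at hne
          obtain ⟨q, hq, -, rfl⟩ := hne
          obtain ⟨-, h2⟩ := hag' q hq
          have := idx_lt (g (pt q.1))
          omega
      rw [this] at ht
      simp at ht
    · exact search_sound ha hg hgM L fixes hfix rest _ hag' (by rw [hdom]; exact hrest) hrec

end

end CfsgLib.SporadicOut
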