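import Cfsg.Prelude.Def_KGroupFacts
import Mathlib.SetTheory.Cardinal.Finite
import Mathlib.Tactic.Group
import Mathlib.GroupTheory.Index
import Mathlib.Algebra.Group.Subgroup.Basic

/-!
# Counting outer automorphisms through the images of a generating family
-/

set_option autoImplicit false

namespace CfsgLib.SporadicOut

variable {G : Type*} [Group G] {ι : Type*}

/-- If every automorphism becomes, after an inner one, a map sending the generating family `x` to
`x`, then there is no outer automorphism. -/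
theorem card_out_eq_one (x : ι → G) (hgen : Subgroup.closure (Set.range x) = ⊤)
    (h : ∀ φ : MulAut G, ∃ g : G, ∀ i, g * φ (x i) * g⁻¹ = x i) :
    Nat.card (Cfsg.Out G) = 1 := by
  have hInn : Cfsg.Inn G = ⊤ := by
    rw [eq_top_iff]
    intro φ _
    obtain ⟨g, hg⟩ := h φ
    have he : ((MulAut.conj g) * φ).toMonoidHom = MonoidHom.id G := by
      refine MonoidHom.eq_of_eqOn_top fun y hy => ?_
      rw [← hgen] at hy
      refine MonoidHom.eqOn_closure (f := ((MulAut.conj g) * φ).toMonoidHom) (g := MonoidHom.id G)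
        ?_ hy
      rintro _ ⟨i, rfl⟩
      exact hg i
    refine ⟨g⁻¹, MulEquiv.ext fun y => ?_⟩
    have := DFunLike.congr_fun he y
    change g * φ y * g⁻¹ = y at this
    rw [MulAut.conj_apply, inv_inv]
    conv_lhs => rw [← this]
    group
  rw [show Nat.card (Cfsg.Out G) = (Cfsg.Inn G).index from rfl, hInn, Subgroup.index_top]

/-- If every automorphism becomes, after an inner one, a map sending the family `x` to `x` or to
`π ∘ x`, and no inner automorphism sends `x` to `π ∘ x`, then there are two classes of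
automorphisms modulo inner ones. -/
theorem card_out_eq_two (x : ι → G) (hgen : Subgroup.closure (Set.range x) = ⊤) (π : MulAut G)
    (h : ∀ φ : MulAut G, ∃ g : G, (∀ i, g * φ (x i) * g⁻¹ = x i) ∨
      ∀ i, g * φ (x i) * g⁻¹ = π (x i))
    (hne : ∀ g : G, ∃ i, g * x i * g⁻¹ ≠ π (x i)) :
    Nat.card (Cfsg.Out G) = 2 := by
  have ext_gen : ∀ ψ χ : MulAut G, (∀ i, ψ (x i) = χ (x i)) → ψ = χ := by
    intro ψ χ hx
    refine MulEquiv.ext fun y => ?_
    have hy : y ∈ Subgroup.closure (Set.range x) := hgen ▸ Subgroup.mem_top y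
    exact MonoidHom.eqOn_closure (f := ψ.toMonoidHom) (g := χ.toMonoidHom)
      (by rintro _ ⟨i, rfl⟩; exact hx i) hy
  let e : Cfsg.Out G := QuotientGroup.mk π
  have hne' : e ≠ 1 := by
    intro he
    obtain ⟨g, hg⟩ := (QuotientGroup.eq_one_iff π).mp he
    obtain ⟨i, hi⟩ := hne g
    exact hi (by rw [← hg]; rfl)
  have hall : ∀ q : Cfsg.Out G, q = 1 ∨ q = e := by
    intro q
    obtain ⟨φ, rfl⟩ := QuotientGroup.mk_surjective q
    obtain ⟨g, hg | hg⟩ := h φ
    · have := ext_gen (MulAut.conj g * φ) 1 hg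
      left
      refine (QuotientGroup.eq_one_iff φ).mpr ⟨g⁻¹, ?_⟩
      rw [map_inv]
      exact inv_eq_of_mul_eq_one_right this
    · have := ext_gen (MulAut.conj g * φ) π hg
      right
      have h1 : (QuotientGroup.mk (MulAut.conj g) : Cfsg.Out G) = 1 :=
        (QuotientGroup.eq_one_iff _).mpr ⟨g, rfl⟩
      change QuotientGroup.mk φ = QuotientGroup.mk π
      rw [← this, QuotientGroup.mk_mul, h1, one_mul]
  rw [Nat.card_eq_two_iff]
  exact ⟨1, e, hne'.symm, Set.eq_univ_iff_forall.mpr fun q => by simpa using hall q⟩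

end CfsgLib.SporadicOut
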