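import Cfsg.Agent.SporadicOut.Glue
import Cfsg.Agent.Schur.MathieuMult

/-!
Invariant sets, tables of members and outer permutations for the small Mathieu groups.
-/

set_option autoImplicit false

namespace CfsgLib.SporadicOut

open Cfsg CfsgLib.Mathieu CfsgLib.Schur.Pc

/-- A table of a member of `Cfsg.Spor.M22`. -/
def inM22 (t : ℕ) : Bool := inM23 t && app t 0 == 0

theorem inGroup_of_inM22 {t : ℕ} (h : inM22 t = true) : InGroup enc Spor.M22 t := by
  simp only [inM22, Bool.and_eq_true, beq_iff_eq] at h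
  obtain ⟨σ, hσ, r⟩ := inGroup_of_inM23 h.1
  refine ⟨σ, mem_SporM22.2 ⟨mem_SporM23.1 hσ, r.apply_eq enc ?_⟩, r⟩
  change app t (idx (some 0)) = idx (some 0)
  exact h.2

theorem setOf24_none : setOf24 8388608 = {(none : GolayPt)} := by decide +kernel

theorem setOf24_zero_pt : setOf24 1 = {(some 0 : GolayPt)} := by decide +kernel

theorem setOf24_dodecad_compl : setOf24 (340831 ^^^ 16777215) = (setOf24 340831)ᶜ := by
  decide +kernel

theorem fixM23 : ∀ g ∈ Spor.M23, ∀ W ∈ [8388608],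
    (setOf24 W).image g = setOf24 W ∧ W < 2 ^ 24 := by
  intro g hg W hW
  rw [List.mem_singleton.1 hW, setOf24_none]
  exact ⟨by rw [Finset.image_singleton, (mem_SporM23.1 hg).2], by norm_num⟩

theorem fixM22 : ∀ g ∈ Spor.M22, ∀ W ∈ [8388608, 1],
    (setOf24 W).image g = setOf24 W ∧ W < 2 ^ 24 := by
  intro g hg W hW
  simp only [List.mem_cons, List.not_mem_nil, or_false] at hW
  rcases hW with rfl | rfl
  · rw [setOf24_none]
    exact ⟨by rw [Finset.image_singleton, (mem_SporM22.1 hg).1.2], by norm_num⟩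
  · rw [setOf24_zero_pt]
    exact ⟨by rw [Finset.image_singleton, (mem_SporM22.1 hg).2], by norm_num⟩

theorem fixM12 : ∀ g ∈ Spor.M12, ∀ W ∈ [340831, 340831 ^^^ 16777215],
    (setOf24 W).image g = setOf24 W ∧ W < 2 ^ 24 := by
  intro g hg W hW
  have h1 : (setOf24 340831).image g = setOf24 340831 := (mem_SporM12.1 hg).2
  simp only [List.mem_cons, List.not_mem_nil, or_false] at hW
  rcases hW with rfl | rfl
  · exact ⟨h1, by norm_num⟩
  · refine ⟨?_, by decide⟩
    rw [setOf24_dodecad_compl, Finset.compl_eq_univ_sdiff, Finset.image_sdiff _ _ g.injective,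
      Finset.image_univ_of_surjective g.surjective, h1]

theorem fixM11 : ∀ g ∈ Spor.M11, ∀ W ∈ [340831, 340831 ^^^ 16777215, 1],
    (setOf24 W).image g = setOf24 W ∧ W < 2 ^ 24 := by
  intro g hg W hW
  simp only [List.mem_cons, List.not_mem_nil, or_false] at hW
  rcases hW with rfl | rfl | rfl
  · exact fixM12 g hg.1 _ (by simp)
  · exact fixM12 g hg.1 _ (by simp)
  · rw [setOf24_zero_pt]
    exact ⟨by rw [Finset.image_singleton, (mem_SporM11.1 hg).2], by norm_num⟩

/-- A member of `M24` exchanging the dodecad with its complement. -/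
theorem exists_outer_M12 {t : ℕ}
    (h : (inM24 t && push t 24 340831 == (340831 ^^^ 16777215) &&
      push t 24 (340831 ^^^ 16777215) == 340831) = true) :
    ∃ π : Equiv.Perm GolayPt, (∀ g, g ∈ Spor.M12 ↔ π * g * π⁻¹ ∈ Spor.M12) ∧ Rep enc π t := by
  simp only [Bool.and_eq_true, beq_iff_eq] at h
  obtain ⟨⟨hm, h1⟩, h2⟩ := h
  obtain ⟨π, hπ, r⟩ := inGroup_of_inM24 hm
  have d1 : (setOf24 340831).image π = (setOf24 340831)ᶜ := by
    rw [image_setOf24 r, h1, setOf24_dodecad_compl]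
  have d2 : ((setOf24 340831)ᶜ).image π = setOf24 340831 := by
    rw [← setOf24_dodecad_compl, image_setOf24 r, h2]
  have key : ∀ σ : Equiv.Perm GolayPt, σ ∈ M24 → (setOf24 340831).image σ = (setOf24 340831)ᶜ →
      ((setOf24 340831)ᶜ).image σ = setOf24 340831 →
      ∀ g ∈ Spor.M12, σ * g * σ⁻¹ ∈ Spor.M12 := by
    intro σ hσ e1 e2 g hg
    obtain ⟨hg24, hgd⟩ := mem_SporM12.1 hg
    refine mem_SporM12.2 ⟨mul_mem (mul_mem hσ hg24) (inv_mem hσ), ?_⟩
    have e3 : (setOf24 340831).image ⇑σ⁻¹ = (setOf24 340831)ᶜ := by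
      conv_lhs => rw [← e2]
      rw [Finset.image_image]
      simp
    have e4 : ((setOf24 340831)ᶜ).image g = (setOf24 340831)ᶜ := by
      rw [← setOf24_dodecad_compl]
      exact (fixM12 g hg _ (by simp)).1
    change (setOf24 340831).image ⇑(σ * g * σ⁻¹) = setOf24 340831
    rw [Equiv.Perm.coe_mul, Equiv.Perm.coe_mul, ← Finset.image_image, e3, ← Finset.image_image, e4,
      e2]
  refine ⟨π, fun g => ⟨key π hπ d1 d2 g, fun hg => ?_⟩, r⟩
  have i1 : (setOf24 340831).image ⇑π⁻¹ = (setOf24 340831)ᶜ := by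
    conv_lhs => rw [← d2]
    rw [Finset.image_image]
    simp
  have i2 : ((setOf24 340831)ᶜ).image ⇑π⁻¹ = setOf24 340831 := by
    conv_lhs => rw [← d1]
    rw [Finset.image_image]
    simp
  have h' := key π⁻¹ (inv_mem hπ) i1 i2 _ hg
  have e : π⁻¹ * (π * g * π⁻¹) * π⁻¹⁻¹ = g := by group
  rwa [e] at h'

/-- A member of `M24` exchanging the two fixed points of `Cfsg.Spor.M22`. -/
theorem exists_outer_M22 {t : ℕ} (h : (inM24 t && app t 23 == 0 && app t 0 == 23) = true) :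
    ∃ π : Equiv.Perm GolayPt, (∀ g, g ∈ Spor.M22 ↔ π * g * π⁻¹ ∈ Spor.M22) ∧ Rep enc π t := by
  simp only [Bool.and_eq_true, beq_iff_eq] at h
  obtain ⟨⟨hm, h1⟩, h2⟩ := h
  obtain ⟨π, hπ, r⟩ := inGroup_of_inM24 hm
  have p1 : π none = some 0 := r.apply_eq enc (by change app t (idx none) = idx (some 0); exact h1)
  have p2 : π (some 0) = none := r.apply_eq enc (by change app t (idx (some 0)) = idx none; exact h2)
  have key : ∀ σ : Equiv.Perm GolayPt, σ ∈ M24 → σ none = some 0 → σ (some 0) = none →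
      ∀ g ∈ Spor.M22, σ * g * σ⁻¹ ∈ Spor.M22 := by
    intro σ hσ e1 e2 g hg
    obtain ⟨⟨hg24, hgn⟩, hg0⟩ := mem_SporM22.1 hg
    have i1 : σ⁻¹ none = some 0 := (Equiv.symm_apply_eq σ).2 e2.symm
    have i2 : σ⁻¹ (some 0) = none := (Equiv.symm_apply_eq σ).2 e1.symm
    refine mem_SporM22.2 ⟨⟨mul_mem (mul_mem hσ hg24) (inv_mem hσ), ?_⟩, ?_⟩
    · change σ (g (σ⁻¹ none)) = none
      rw [i1, hg0, e2]
    · change σ (g (σ⁻¹ (some 0))) = some 0
      rw [i2, hgn, e1]
  refine ⟨π, fun g => ⟨key π hπ p1 p2 g, fun hg => ?_⟩, r⟩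
  have h' := key π⁻¹ (inv_mem hπ) ((Equiv.symm_apply_eq π).2 p2.symm)
    ((Equiv.symm_apply_eq π).2 p1.symm) _ hg
  have e : π⁻¹ * (π * g * π⁻¹) * π⁻¹⁻¹ = g := by group
  rwa [e] at h'

end CfsgLib.SporadicOut
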