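import Cfsg.Agent.SporadicOut.J1Words
import Cfsg.Agent.Schur.PcCover

/-!
# The Schur multiplier of `Cfsg.Spor.J1` is trivial
-/

set_option autoImplicit false
set_option linter.style.haveILetI false

namespace CfsgLib.SporadicOut.J1Mult

open CfsgLib.J1 CfsgLib.Schur CfsgLib.Schur.Pc CfsgLib.SporadicOut.J1Words
open CfsgLib.SporadicOut.J1Data

/-- The word of a certificate word. -/
def subW (w : List ℕ) : List ℕ := w.flatMap fun i => wE.getD i []

theorem ev_subW (w : List ℕ) :
    ev (fun i => (ev gen (wE.getD i []) : Cfsg.Spor.J1)) w = ev gen (subW w) :=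
  (ev_flatMap gen _ w).symm

/-- The checks on words. -/
def wordsOK : Bool :=
  cert2.rules.all (fun l => wEq (subW l.1) (subW l.2)) && decide (wG.length = cert2.fus.length) &&
    (cert2.fus.zip wG).all fun F => (List.range cert2.fusW).all fun s =>
      wEq (F.2 ++ subW (F.1.1.getD s [])) (subW (F.1.2.getD s []) ++ F.2)

theorem two_part {Γ : Type} [Group Γ] [Finite Γ] (σ : Γ →* Cfsg.Spor.J1)
    (hσ : Cfsg.IsStemExtension σ) (hexp : ∀ z ∈ σ.ker, z ^ 2 = 1) : σ.ker = ⊥ := by
  haveI : Finite Cfsg.Spor.J1 := Nat.finite_of_card_ne_zero (by rw [card_J1]; norm_num)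
  have hok : wordsOK = true := by decide +kernel
  simp only [wordsOK, Bool.and_eq_true, List.all_eq_true, decide_eq_true_eq] at hok
  obtain ⟨⟨hr, hlen⟩, hf⟩ := hok
  let x : ℕ → Cfsg.Spor.J1 := fun i => ev gen (wE.getD i [])
  have hrules : ∀ l ∈ cert2.rules, ev x l.1 = ev x l.2 := fun l hl => by
    rw [ev_subW, ev_subW]; exact wEq_sound (hr l hl)
  have hfus : ∀ F ∈ cert2.fus, ∃ g : Cfsg.Spor.J1, ∀ s < cert2.fusW,
      g * ev x (F.1.getD s []) * g⁻¹ = ev x (F.2.getD s []) := by
    intro F hF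
    obtain ⟨i, hi, rfl⟩ := List.getElem_of_mem hF
    have hi' : i < wG.length := hlen.symm ▸ hi
    have hmem : (cert2.fus[i], wG[i]) ∈ cert2.fus.zip wG := by
      refine List.mem_iff_getElem.mpr ⟨i, by rw [List.length_zip]; omega, ?_⟩
      rw [List.getElem_zip]; exact rfl
    refine ⟨ev gen wG[i], fun s hs => ?_⟩
    have h := wEq_sound (hf _ hmem s (List.mem_range.2 hs))
    rw [ev_append, ev_append] at h
    rw [ev_subW, ev_subW, mul_inv_eq_iff_eq_mul]
    exact h
  have hcard : cert2.p ^ cert2.n ≤ Nat.card (tailSubgroup x cert2.n 0) := by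
    have hlen : ((normalWords cert2.p cert2.n 0).map subW).length = cert2.p ^ cert2.n := by
      rw [List.length_map, length_normalWords]
    rw [← hlen]
    refine le_card_of_rows_nodup _ _ (fun w hw => ?_) (by decide +kernel)
    obtain ⟨v, hv, rfl⟩ := List.mem_map.1 hw
    rw [← ev_subW]
    exact ev_mem _ fun a ha => gen_mem_tailSubgroup x (Nat.zero_le a)
      (by have := mem_normalWords _ _ 0 v hv a ha; omega)
  have hcheck : cert2.check = true := by decide +kernel
  have hshape : shaped cert2.p cert2.n cert2.rules = true := by decide +kernel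
  refine cert2.ker_eq_bot σ hσ Nat.prime_two hexp hcheck x hrules hfus hcard ?_
  have hS : Nat.card (tailSubgroup x cert2.n 0) = 8 :=
    le_antisymm (card_tailSubgroup_le x hshape hrules cert2.n 0 (Nat.zero_add _)) hcard
  have h := Subgroup.index_mul_card (tailSubgroup x cert2.n 0)
  rw [hS, card_J1] at h
  intro hd
  change 2 ∣ _ at hd
  omega

/-- The multiplier is trivial. -/
theorem trivial_multiplier : Cfsg.HasCyclicSchurMultiplier Cfsg.Spor.J1 1 := by
  haveI : Finite Cfsg.Spor.J1 := Nat.finite_of_card_ne_zero (by rw [card_J1]; norm_num)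
  refine hasCyclicSchurMultiplier_one _ fun p hp hd Γ _ _ σ hσ hexp => ?_
  have hodd : ∀ q e n : ℕ, q.Prime → p = q → n ∈ [6, 7, 10, 11, 15, 19] → n / q = e → q ∣ n →
      ¬ q ∣ 175560 / q → q ∣ 175560 → σ.ker = ⊥ := by
    intro q e n hq hpq hn he hqn hnd hq'
    subst hpq
    obtain ⟨g, hg⟩ := exists_orderOf_witness n hn
    refine ker_eq_bot_of_index_zpowers hp (g ^ e) ?_ σ hσ hexp
    have ho : orderOf (g ^ e) = p := by
      rw [← he, ← hg]
      exact orderOf_pow_orderOf_div (by
        intro h0; rw [h0] at hg; rw [← hg] at hn; simp at hn) (hg ▸ hqn)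
    have h := Subgroup.index_mul_card (Subgroup.zpowers (g ^ e))
    rw [Nat.card_zpowers, ho, card_J1] at h
    rwa [← h, Nat.mul_div_cancel _ hp.pos] at hnd
  have hmem : p ∈ [2, 2, 2, 3, 5, 7, 11, 19] := by
    obtain ⟨q, hq, hdq⟩ := (Prime.dvd_prod_iff (Nat.prime_iff.1 hp)).1
      (show p ∣ [2, 2, 2, 3, 5, 7, 11, 19].prod by rw [card_J1] at hd; exact hd)
    have hqp : q.Prime := (by decide : ∀ x ∈ [2, 2, 2, 3, 5, 7, 11, 19], Nat.Prime x) q hq
    rwa [(Nat.prime_dvd_prime_iff_eq hp hqp).1 hdq]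
  simp only [List.mem_cons, List.not_mem_nil, or_false] at hmem
  rcases hmem with rfl | rfl | rfl | rfl | rfl | rfl | rfl | rfl
  · exact two_part σ hσ hexp
  · exact two_part σ hσ hexp
  · exact two_part σ hσ hexp
  · exact hodd 3 2 6 hp rfl (by decide) rfl (by decide) (by decide) (by decide)
  · exact hodd 5 2 10 hp rfl (by decide) rfl (by decide) (by decide) (by decide)
  · exact hodd 7 1 7 hp rfl (by decide) rfl (by decide) (by decide) (by decide)
  · exact hodd 11 1 11 hp rfl (by decide) rfl (by decide) (by decide) (by decide)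
  · exact hodd 19 1 19 hp rfl (by decide) rfl (by decide) (by decide) (by decide)

end CfsgLib.SporadicOut.J1Mult
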