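import Cfsg.Agent.Schur.PcCover

/-!
Data for `Cfsg.Spor.J1`: elements as words in its two generators (`0` and `1`), and a certificate for
the Sylow 2-subgroup with fusion.
-/

set_option autoImplicit false

namespace CfsgLib.SporadicOut.J1Data

open CfsgLib.Schur.Pc

/-- Order 11. -/
def wA : List ℕ := [0, 1, 1]

/-- Order 10, normalising `wA`. -/
def wB : List ℕ := [1, 0, 1, 1, 0, 1, 0, 0]

/-- Order 3, centralising `wB ^ 2`. -/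
def wC : List ℕ := [0, 1, 0, 0, 0, 1, 0, 1, 1, 0, 1, 0, 0, 0, 0, 1, 1, 0, 1]

/-- Inverts `wB ^ 2`. -/
def wI : List ℕ := [0, 0, 0, 1, 0, 1, 1, 1, 0, 0]

/-- The first generator as a word in `wA`, `wB`, `wC`. -/
def genX : List ℕ := [1, 0, 2, 2, 0, 1, 0, 2, 2, 0, 2, 0, 0, 0, 1]

/-- The second generator as a word in `wA`, `wB`, `wC`. -/
def genY : List ℕ := [0, 0, 0, 2, 0, 0, 2, 2, 0, 0, 2, 2, 0]

/-- Generators of a Sylow 2-subgroup. -/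
def wE : List (List ℕ) := [[0, 1, 0, 0, 1, 1, 1, 0, 0, 1, 0, 1, 1, 0, 0, 1, 0, 1, 0], [1, 0, 0, 0, 1, 1, 1, 1, 0, 1], [1, 1, 1, 0, 1, 0, 0, 1, 0, 1, 1, 1, 0, 1, 0, 1]]

/-- Conjugating elements of the fusions. -/
def wG : List (List ℕ) := [[0, 1, 0, 0, 0, 0, 1, 0, 1, 0, 1], [0, 0, 0, 0, 0, 1, 0, 1, 0, 0, 0, 1, 0, 1, 1, 0, 1, 1], [0, 1, 1, 1, 0, 0, 1, 1, 0, 0, 1, 1, 1, 0, 1, 0, 1]]

/-- The certificate. -/
def cert2 : Cert where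
  p := 2
  n := 3
  rules := [([0, 0], []), ([1, 1], []), ([2, 2], []), ([1, 0], [0, 1]), ([2, 0], [0, 2]), ([2, 1], [1, 2])]
  fus := [([[2], [1]], [[0, 2], [2]]), ([[2], [1]], [[0, 1, 2], [0, 2]]), ([[2], [1]], [[0, 1], [0, 1, 2]])]
  fusW := 2
  assoc := []
  fusEq := [(0, [0, 1], [1, 0]), (1, [0, 1], [1, 0]), (2, [0, 1], [1, 0])]
  eqs := [([2, 6, 7], [4, 2, 7, 6, 5]), ([4, 3, 0, 2, 8, 9], [4, 0, 5, 2, 9, 8, 5]), ([3, 0, 1, 10, 11], [4, 3, 0, 5, 1, 11, 10, 5])]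
  e := 1
  adj := [[0], [1], [2]]
  combo := [[], [], [], [(1, 1)], [(2, 1)], [(0, 1), (2, 1)]]
  fuel := 12

end CfsgLib.SporadicOut.J1Data
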