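import Cfsg.Agent.J1.Orders
import Cfsg.Agent.SporadicOut.J1Data

/-!
# Words in the two generators of `Cfsg.Spor.J1`, compared by packed matrices
-/

set_option autoImplicit false

namespace CfsgLib.SporadicOut.J1Words

open CfsgLib.J1 CfsgLib.Schur.Pc

/-- The two generators. -/
def gen : ℕ → Cfsg.Spor.J1
  | 0 => ⟨Cfsg.Spor.jankoX, Subgroup.subset_closure (Or.inl rfl)⟩
  | _ + 1 => ⟨Cfsg.Spor.jankoY, Subgroup.subset_closure (Or.inr rfl)⟩

/-- Packed matrix of a word. -/
def wordM : List ℕ → M7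
  | [] => mOne
  | a :: w => mul (genT a) (wordM w)

theorem wordM_spec : ∀ w, WF (wordM w) ∧
    ((ev gen w : Cfsg.Spor.J1).1 : Matrix (Fin 7) (Fin 7) (ZMod 11)) = dec (wordM w)
  | [] => ⟨inJ_one.1, by simp [wordM, dec_mOne]⟩
  | a :: w => by
    refine ⟨wf_mul _ _, ?_⟩
    rw [ev_cons, wordM, dec_mul (inJ_genT a).1 (wordM_spec w).1, Subgroup.coe_mul, Units.val_mul,
      (wordM_spec w).2]
    congr 1
    rcases a with _ | a
    · exact coe_jankoX
    · exact coe_jankoY

/-- Two words give one matrix. -/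
def wEq (u v : List ℕ) : Bool := eqb (wordM u) (wordM v)

theorem wEq_sound {u v : List ℕ} (h : wEq u v = true) :
    (ev gen u : Cfsg.Spor.J1) = ev gen v := by
  refine Subtype.ext (Units.ext ?_)
  rw [(wordM_spec u).2, (wordM_spec v).2, eq_of_eqb h]

/-- A key separating matrices. -/
def mkRows (A : M7) : List ℕ := [A.r0, A.r1, A.r2, A.r3, A.r4, A.r5, A.r6]

theorem wordM_eq_of_ev_eq {u v : List ℕ} (h : (ev gen u : Cfsg.Spor.J1) = ev gen v) :
    wordM u = wordM v := by
  refine hT_mul.eq_of_dec (wordM_spec u).1 (wordM_spec v).1 ?_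
  rw [← (wordM_spec u).2, ← (wordM_spec v).2, h]

theorem ev_ne_of_rows {u v : List ℕ} (h : (mkRows (wordM u) != mkRows (wordM v)) = true) :
    (ev gen u : Cfsg.Spor.J1) ≠ ev gen v := fun e => by
  rw [wordM_eq_of_ev_eq e] at h
  simp at h

theorem le_card_of_rows_nodup (H : Subgroup Cfsg.Spor.J1) (L : List (List ℕ))
    (hH : ∀ w ∈ L, ev gen w ∈ H) (hnd : (L.map fun w => mkRows (wordM w)).Nodup) :
    L.length ≤ Nat.card H := by
  haveI : Finite Cfsg.Spor.J1 := Nat.finite_of_card_ne_zero (by rw [card_J1]; norm_num)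
  let f : Fin L.length → H := fun i => ⟨ev gen L[i], hH _ (List.getElem_mem i.2)⟩
  have hf : Function.Injective f := by
    intro i j h
    have h' := wordM_eq_of_ev_eq (congrArg Subtype.val h)
    refine Fin.ext (List.getElem_inj (h₀ := by simpa using i.2) (h₁ := by simpa using j.2) hnd |>.1 ?_)
    simp [show wordM L[(i : ℕ)] = wordM L[(j : ℕ)] from h']
  simpa using Nat.card_le_card_of_injective f hf

/-- The possible element orders. -/
theorem orderOf_mem (g : Cfsg.Spor.J1) :
    orderOf g ∈ [1, 2, 3, 5, 6, 7, 10, 11, 15, 19] := by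
  have : orderOf g ∈ Set.range (orderOf : Cfsg.Spor.J1 → ℕ) := ⟨g, rfl⟩
  rwa [range_orderOf_J1] at this

end CfsgLib.SporadicOut.J1Words
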