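import Cfsg.Agent.SporadicOut.Criterion
import Cfsg.Agent.SporadicOut.NormEnum
import Cfsg.Agent.Schur.PcPerm

/-!
# Rigidity of generating triples in subgroups of `Cfsg.M24`

`a` generates a Sylow subgroup of prime order, `b` normalises `⟨a⟩` and `c` normalises `⟨b⟩`.
Every automorphism becomes, after an inner one, a map fixing `b` and moving `a` to one of few
powers; the image of `c` is then found among the elements normalising `⟨b⟩`, and all but the listed
possibilities break a relation.
-/

set_option autoImplicit false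
set_option linter.style.haveILetI false

namespace CfsgLib.SporadicOut

open Cfsg CfsgLib.Mathieu CfsgLib.Schur.Pc

/-- The data. `LA` lists the elements conjugating `a` to `a^r`, `LB` those conjugating `b` to `b^s`,
`GS` the conjugating elements used, `K0` the exponents to which `a` is reduced; `(a2, b2, c2)` is
the second allowed image of `(a, b, c)`. -/
structure Rigid where
  p : ℕ
  r : ℕ
  s : ℕ
  a : ℕ
  b : ℕ
  c : ℕ
  a2 : ℕ
  b2 : ℕ
  c2 : ℕ
  levA : List Level
  LA : List ℕ
  levB : List Level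
  LB : List ℕ
  GS : List ℕ
  K0 : List ℕ
  rels : List (List ℕ × List ℕ)

/-- Replace the letter `0` by its `k`-th power. -/
def powFirst (k : ℕ) (w : List ℕ) : List ℕ :=
  w.flatMap fun i => if i = 0 then List.replicate k 0 else [i]

namespace Rigid

variable (R : Rigid)

/-- The generators. -/
def gens : List ℕ := [R.a, R.b, R.c]

/-- The seven tables used when the image of `c` is `z` and that of `b` is `y`. -/
def frame (y z : ℕ) : List ℕ := [R.a, y, z, R.b, R.c, R.a2, R.b2, R.c2]

/-- The image `(a ^ k, y, z)` breaks a relation. -/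
def breaks (k y z : ℕ) (ab : Bool) : Bool :=
  R.rels.any fun l => (!ab || (l.1 ++ l.2).all (fun i => decide (i < 2))) &&
    !(wordEq [R.a, y, z] (powFirst k l.1) (powFirst k l.2))

/-- `(a ^ k, y)` can be normalised. -/
def stepOne (k y : ℕ) : Bool :=
  R.breaks k y R.c true || R.GS.any fun g => R.K0.any fun k0 =>
    wordConj (R.frame y R.c) g (List.replicate k 0) (List.replicate k0 0) &&
      wordConj (R.frame y R.c) g [1] [3]

/-- `(a ^ k, b, z)` is one of the allowed images, up to conjugation. -/
def stepTwo (k z : ℕ) : Bool :=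
  R.breaks k R.b z false || R.GS.any fun g =>
    (wordConj (R.frame R.b z) g (List.replicate k 0) [0] && wordConj (R.frame R.b z) g [1] [3] &&
        wordConj (R.frame R.b z) g [2] [4]) ||
      (wordConj (R.frame R.b z) g (List.replicate k 0) [5] && wordConj (R.frame R.b z) g [1] [6] &&
        wordConj (R.frame R.b z) g [2] [7])

/-- Facts about the generators. -/
def baseOK : Bool :=
  wordEq R.gens (List.replicate R.p 0) [] && !(wordEq R.gens [0] []) &&
    wordEq R.gens [1, 0] (List.replicate R.r 0 ++ [1]) &&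
    wordEq R.gens [2, 1] (List.replicate R.s 1 ++ [2]) &&
    R.rels.all fun l => wordEq R.gens l.1 l.2

/-- The whole check, for a group fixing the sets `fixes`. -/
def check (fixes : List ℕ) : Bool :=
  R.baseOK && levelsOK fixes R.a R.levA 0 && levelsOK fixes R.b R.levB 0 &&
    search R.a R.r R.LA R.levA [] && search R.b R.s R.LB R.levB [] &&
    (allBelow R.p fun k => k == 0 || R.LA.all fun y => R.stepOne k y) &&
    R.K0.all fun k => R.LB.all fun z => R.stepTwo k z

end Rigid

variable {H : Subgroup (Equiv.Perm GolayPt)}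

theorem inGroup_unique {t : ℕ} {u v : H} (hu : Rep enc u.1 t) (hv : Rep enc v.1 t) : u = v :=
  Subtype.ext (Rep.unique hu hv)

theorem tImg_eq {xs : List ℕ} {x : ℕ → H} (hx : ∀ i, i < xs.length → Rep enc (x i).1 (xs.getD i idTable))
    {w : List ℕ} (hw : ∀ i ∈ w, i < xs.length) (p : GolayPt) :
    (enc ((ev x w : H).1 p)).val = tImg xs w (enc p).val := by
  induction w with
  | nil => simp [tImg]
  | cons a w ih =>
    rw [ev_cons]
    change (enc ((x a).1 ((ev x w : H).1 p))).val = app (xs.getD a idTable) (tImg xs w (enc p).val)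
    rw [← ih (fun i hi => hw i (List.mem_cons_of_mem _ hi)), hx a (hw a List.mem_cons_self)]

theorem wordEq_iff {xs : List ℕ} {x : ℕ → H} (hx : ∀ i, i < xs.length → Rep enc (x i).1 (xs.getD i idTable))
    {u v : List ℕ} (hu : ∀ i ∈ u, i < xs.length) (hv : ∀ i ∈ v, i < xs.length) :
    wordEq xs u v = true ↔ ev x u = ev x v := by
  simp only [wordEq, allBelow_iff, beq_iff_eq]
  constructor
  · intro h
    refine Subtype.ext (Equiv.ext fun p => enc.injective (Fin.ext ?_))
    rw [tImg_eq hx hu, tImg_eq hx hv, h _ (enc p).isLt]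
  · intro h i hi
    have h1 := tImg_eq hx hu (pt i)
    rw [h, tImg_eq hx hv (pt i)] at h1
    change tImg xs v (idx (pt i)) = tImg xs u (idx (pt i)) at h1
    rw [idx_pt hi] at h1
    exact h1.symm

theorem wordConj_sound {xs : List ℕ} {x : ℕ → H} (hx : ∀ i, i < xs.length → Rep enc (x i).1 (xs.getD i idTable))
    {γ : H} {g : ℕ} (hγ : Rep enc γ.1 g) {u v : List ℕ} (hu : ∀ i ∈ u, i < xs.length)
    (hv : ∀ i ∈ v, i < xs.length) (h : wordConj xs g u v = true) :
    γ * ev x u * γ⁻¹ = ev x v := by
  simp only [wordConj, allBelow_iff, beq_iff_eq] at h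
  rw [mul_inv_eq_iff_eq_mul]
  refine Subtype.ext (Equiv.ext fun p => enc.injective (Fin.ext ?_))
  change (enc (γ.1 ((ev x u : H).1 p))).val = (enc ((ev x v : H).1 (γ.1 p))).val
  rw [← hγ, tImg_eq hx hu, tImg_eq hx hv, ← hγ, h _ (enc p).isLt]

/-- The lookup of a three element family. -/
def trip {M : Type*} (a b c : M) : ℕ → M
  | 0 => a
  | 1 => b
  | _ => c

theorem ev_powFirst (k : ℕ) (a y z : H) :
    ∀ w, ev (trip a y z) (powFirst k w) = ev (trip (a ^ k) y z) w
  | [] => rfl
  | i :: w => by
    have ih := ev_powFirst k a y z w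
    simp only [powFirst, List.flatMap_cons] at ih ⊢
    rw [ev_append, ih, ev_cons]
    congr 1
    split_ifs with h
    · subst h; rw [ev_replicate]; rfl
    · obtain ⟨j, rfl⟩ := Nat.exists_eq_succ_of_ne_zero h
      rw [ev_cons, ev_nil, mul_one]
      cases j <;> rfl

theorem mem_powFirst {k n : ℕ} (hn : 0 < n) {w : List ℕ} (hw : ∀ i ∈ w, i < n) :
    ∀ i ∈ powFirst k w, i < n := by
  intro i hi
  simp only [powFirst, List.mem_flatMap] at hi
  obtain ⟨j, hj, hij⟩ := hi
  split at hij
  · rw [List.eq_of_mem_replicate hij]; exact hn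
  · rw [List.mem_singleton.1 hij]; exact hw j hj

/-- All automorphisms take the triple to one of the two allowed images, up to inner ones. -/
theorem Rigid.normal_form (R : Rigid) (fixes : List ℕ) (hp : R.p.Prime) (hM : H ≤ M24)
    (hfix : ∀ g ∈ H, ∀ W ∈ fixes, (setOf24 W).image g = setOf24 W ∧ W < 2 ^ 24)
    {N : ℕ} (hN : Nat.card H = R.p * N) (hNp : ¬ R.p ∣ N)
    (hGS : ∀ t ∈ R.GS, InGroup enc H t)
    (hrels : ∀ l ∈ R.rels, ∀ i ∈ l.1 ++ l.2, i < 3)
    (a b c a2 b2 c2 : H) (ha : Rep enc a.1 R.a) (hb : Rep enc b.1 R.b) (hc : Rep enc c.1 R.c)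
    (ha2 : Rep enc a2.1 R.a2) (hb2 : Rep enc b2.1 R.b2) (hc2 : Rep enc c2.1 R.c2)
    (hcheck : R.check fixes = true) (φ : MulAut H) :
    ∃ g : H, (∀ i, g * φ (trip a b c i) * g⁻¹ = trip a b c i) ∨
      ∀ i, g * φ (trip a b c i) * g⁻¹ = trip a2 b2 c2 i := by
  classical
  haveI : Fact R.p.Prime := ⟨hp⟩
  simp only [Rigid.check, Rigid.baseOK, Bool.and_eq_true, List.all_eq_true, Bool.not_eq_true',
    allBelow_iff, Bool.or_eq_true, beq_iff_eq] at hcheck
  obtain ⟨⟨⟨⟨⟨⟨⟨⟨⟨⟨hord, hne⟩, hconjA⟩, hconjB⟩, hrel⟩, hlevA⟩, hlevB⟩, hsA⟩, hsB⟩, hone⟩, htwo⟩ :=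
    hcheck
  let x := trip a b c
  have hx : ∀ i, i < R.gens.length → Rep enc (x i).1 (R.gens.getD i idTable) := by
    intro i hi
    simp only [Rigid.gens, List.length_cons, List.length_nil] at hi
    rcases i with _ | _ | _ | i
    · exact ha
    · exact hb
    · exact hc
    · omega
  have hl3 : R.gens.length = 3 := rfl
  have h0 : ∀ k : ℕ, ∀ i ∈ List.replicate k 0, i < 3 := fun k i hi => by
    rw [List.eq_of_mem_replicate hi]; norm_num
  have h1 : ∀ k : ℕ, ∀ i ∈ List.replicate k 1, i < 3 := fun k i hi => by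
    rw [List.eq_of_mem_replicate hi]; norm_num
  have hap : a ^ R.p = 1 := by
    have := (wordEq_iff hx (h0 R.p) (by simp)).1 hord
    rwa [ev_replicate, ev_nil] at this
  have ha1 : a ≠ 1 := by
    intro h
    rw [(wordEq_iff hx (by simp [hl3]) (by simp)).2 (by simp [ev_cons, x, trip, h])] at hne
    simp at hne
  have hao : orderOf a = R.p := orderOf_eq_prime hap ha1
  have hba : b * a = a ^ R.r * b := by
    have := (wordEq_iff hx (by simp [hl3]) (fun i hi => (List.mem_append.1 hi).elim
      (h0 R.r i) (fun h => by simp at h; simp [h, hl3]))).1 hconjA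
    simpa [ev_append, ev_cons, ev_replicate, x, trip] using this
  have hcb : c * b = b ^ R.s * c := by
    have := (wordEq_iff hx (by simp [hl3]) (fun i hi => (List.mem_append.1 hi).elim
      (h1 R.s i) (fun h => by simp at h; simp [h, hl3]))).1 hconjB
    simpa [ev_append, ev_cons, ev_replicate, x, trip] using this
  -- Sylow conjugacy
  haveI : Finite H := inferInstance
  have hcardz : ∀ u : H, orderOf u = R.p →
      Nat.card (Subgroup.zpowers u) = R.p ^ (Nat.card H).factorization R.p := by
    intro u hu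
    rw [Nat.card_zpowers, hu, hN, Nat.factorization_mul hp.ne_zero
      (fun h => hNp (by rw [h]; exact dvd_zero _)), Finsupp.add_apply, hp.factorization_self,
      Nat.factorization_eq_zero_of_not_dvd hNp, Nat.add_zero, pow_one]
  have hφo : orderOf (φ a) = R.p := by rw [MulEquiv.orderOf_eq, hao]
  let P1 : Sylow R.p H := Sylow.ofCard _ (hcardz _ hφo)
  let P2 : Sylow R.p H := Sylow.ofCard _ (hcardz _ hao)
  obtain ⟨g1, hg1⟩ := MulAction.exists_smul_eq H P1 P2
  have hmem : g1 * φ a * g1⁻¹ ∈ Subgroup.zpowers a := by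
    have h2 : g1 * φ a * g1⁻¹ ∈ (↑(g1 • P1) : Subgroup H) := by
      rw [Sylow.coe_subgroup_smul]
      exact Subgroup.smul_mem_pointwise_smul (φ a) (MulAut.conj g1) _ (Subgroup.mem_zpowers _)
    rw [hg1] at h2
    exact h2
  obtain ⟨k, hk, hka⟩ : ∃ k < R.p, a ^ k = g1 * φ a * g1⁻¹ := by
    obtain ⟨k, hk, he⟩ := Finset.mem_image.1 (mem_zpowers_iff_mem_range_orderOf.1 hmem)
    exact ⟨k, by simpa [hao] using hk, he⟩
  let ψ : MulAut H := MulAut.conj g1 * φ
  have hψa : ψ a = a ^ k := hka.symm
  have hk0 : k ≠ 0 := by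
    rintro rfl
    rw [pow_zero] at hψa
    exact ha1 (ψ.injective (hψa.trans (map_one ψ).symm))
  -- the image of `b`
  obtain ⟨k', hk'⟩ : ∃ k', a ^ (k * k') = a := by
    have hcop : k.Coprime (orderOf a) := by
      rw [hao]
      exact (hp.coprime_iff_not_dvd.2 fun h => hk0 (Nat.eq_zero_of_dvd_of_lt h hk)).symm
    obtain ⟨m, hm⟩ := exists_pow_eq_self_of_coprime hcop
    exact ⟨m, by rw [pow_mul]; exact hm⟩
  have hya : ψ b * a = a ^ R.r * ψ b := by
    have e := congrArg ψ hba
    rw [map_mul, map_mul, map_pow, hψa] at e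
    have e' : SemiconjBy (ψ b) (a ^ k) ((a ^ k) ^ R.r) := e
    have e2 := SemiconjBy.pow_right e' k'
    rw [← pow_mul, ← pow_mul, ← pow_mul] at e2
    rw [hk'] at e2
    rw [show k * (R.r * k') = k * k' * R.r by ring, pow_mul, hk'] at e2
    exact e2
  obtain ⟨ty, hty, hyR⟩ := search_sound (g := (ψ b).1) ha
    (by simpa using congrArg Subtype.val hya) (hM (ψ b).2) R.LA fixes (hfix _ (ψ b).2) R.levA []
    (by simp [Agrees]) (by simpa [domMask] using hlevA) hsA
  -- normalising `(a ^ k, ψ b)`
  obtain ⟨k0, hk0m, g2, hg2a, hg2b⟩ : ∃ k0 ∈ R.K0, ∃ g2 : H,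
      g2 * ψ a * g2⁻¹ = a ^ k0 ∧ g2 * ψ b * g2⁻¹ = b := by
    have hs := (hone k hk).resolve_left hk0 ty hty
    simp only [Rigid.stepOne, Bool.or_eq_true, List.any_eq_true, Bool.and_eq_true] at hs
    rcases hs with hbr | ⟨g, hg, k0, hk0, hA, hB⟩
    · exfalso
      simp only [Rigid.breaks, Bool.not_true, Bool.false_or, List.any_eq_true, Bool.and_eq_true,
        List.all_eq_true, decide_eq_true_eq, Bool.not_eq_true'] at hbr
      obtain ⟨l, hl, hl2, hbad⟩ := hbr
      let x' := trip a (ψ b) c
      have hx' : ∀ i, i < [R.a, ty, R.c].length →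
          Rep enc (x' i).1 ([R.a, ty, R.c].getD i idTable) := by
        intro i hi
        simp only [List.length_cons, List.length_nil] at hi
        rcases i with _ | _ | _ | i
        · exact ha
        · exact hyR
        · exact hc
        · omega
      have hlt : ∀ w, (∀ i ∈ w, i ∈ l.1 ++ l.2) →
          ev (trip a (ψ b) c) (powFirst k w) = ψ (ev x w) := by
        intro w hw
        rw [ev_powFirst, show ψ (ev x w) = ψ.toMonoidHom (ev x w) from rfl, map_ev]
        unfold ev
        refine congrArg List.prod (List.map_congr_left fun i hi => ?_)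
        have := hl2 i (hw i hi)
        rcases i with _ | _ | i
        · exact hψa.symm
        · rfl
        · omega
      have hu : ∀ i ∈ l.1, i < 3 := fun i hi => hrels l hl i (List.mem_append_left _ hi)
      have hv : ∀ i ∈ l.2, i < 3 := fun i hi => hrels l hl i (List.mem_append_right _ hi)
      have e : ev x' (powFirst k l.1) = ev x' (powFirst k l.2) := by
        rw [hlt _ (fun i hi => List.mem_append_left _ hi),
          hlt _ (fun i hi => List.mem_append_right _ hi), (wordEq_iff hx hu hv).1 (hrel l hl)]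
      rw [(wordEq_iff hx' (mem_powFirst (by norm_num) hu) (mem_powFirst (by norm_num) hv)).2 e]
        at hbad
      simp at hbad
    · obtain ⟨γ, hγ, rγ⟩ := hGS g hg
      let x' : ℕ → H := fun i => [a, ψ b, c, b, c, a2, b2, c2].getD i 1
      have hx' : ∀ i, i < (R.frame ty R.c).length →
          Rep enc (x' i).1 ((R.frame ty R.c).getD i idTable) := by
        intro i hi
        simp only [Rigid.frame, List.length_cons, List.length_nil] at hi
        rcases i with _ | _ | _ | _ | _ | _ | _ | _ | i
        · exact ha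
        · exact hyR
        · exact hc
        · exact hb
        · exact hc
        · exact ha2
        · exact hb2
        · exact hc2
        · omega
      have h8 : ∀ m : ℕ, ∀ i ∈ List.replicate m 0, i < (R.frame ty R.c).length := fun m i hi => by
        rw [List.eq_of_mem_replicate hi]; simp [Rigid.frame]
      have e1 := wordConj_sound (γ := ⟨γ, hγ⟩) hx' rγ (h8 k) (h8 k0) hA
      have e2 := wordConj_sound (γ := ⟨γ, hγ⟩) hx' rγ (by simp [Rigid.frame]) (by simp [Rigid.frame]) hB
      refine ⟨k0, hk0, ⟨γ, hγ⟩, ?_, ?_⟩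
      · simpa [ev_replicate, x', hψa] using e1
      · simpa [ev_cons, x'] using e2
  let χ : MulAut H := MulAut.conj g2 * ψ
  have hχa : χ a = a ^ k0 := hg2a
  have hχb : χ b = b := hg2b
  have hzb : χ c * b = b ^ R.s * χ c := by
    have e := congrArg χ hcb
    rwa [map_mul, map_mul, map_pow, hχb] at e
  obtain ⟨tz, htz, hzR⟩ := search_sound (g := (χ c).1) hb
    (by simpa using congrArg Subtype.val hzb) (hM (χ c).2) R.LB fixes (hfix _ (χ c).2) R.levB []
    (by simp [Agrees]) (by simpa [domMask] using hlevB) hsB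
  have hs := htwo k0 hk0m tz htz
  simp only [Rigid.stepTwo, Bool.or_eq_true, List.any_eq_true, Bool.and_eq_true] at hs
  rcases hs with hbr | ⟨g, hg, hT⟩
  · exfalso
    simp only [Rigid.breaks, Bool.not_false, Bool.true_or, Bool.true_and, List.any_eq_true,
      Bool.not_eq_true'] at hbr
    obtain ⟨l, hl, hbad⟩ := hbr
    let x' := trip a b (χ c)
    have hx' : ∀ i, i < [R.a, R.b, tz].length →
        Rep enc (x' i).1 ([R.a, R.b, tz].getD i idTable) := by
      intro i hi
      simp only [List.length_cons, List.length_nil] at hi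
      rcases i with _ | _ | _ | i
      · exact ha
      · exact hb
      · exact hzR
      · omega
    have hlt : ∀ w, ev (trip a b (χ c)) (powFirst k0 w) = χ (ev x w) := by
      intro w
      rw [ev_powFirst, show χ (ev x w) = χ.toMonoidHom (ev x w) from rfl, map_ev]
      unfold ev
      refine congrArg List.prod (List.map_congr_left fun i _ => ?_)
      rcases i with _ | _ | i
      · exact hχa.symm
      · exact hχb.symm
      · rfl
    have hu : ∀ i ∈ l.1, i < 3 := fun i hi => hrels l hl i (List.mem_append_left _ hi)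
    have hv : ∀ i ∈ l.2, i < 3 := fun i hi => hrels l hl i (List.mem_append_right _ hi)
    have e : ev x' (powFirst k0 l.1) = ev x' (powFirst k0 l.2) := by
      rw [hlt, hlt, (wordEq_iff hx hu hv).1 (hrel l hl)]
    rw [(wordEq_iff hx' (mem_powFirst (by norm_num) hu) (mem_powFirst (by norm_num) hv)).2 e]
      at hbad
    simp at hbad
  · obtain ⟨γ, hγ, rγ⟩ := hGS g hg
    let x' : ℕ → H := fun i => [a, b, χ c, b, c, a2, b2, c2].getD i 1
    have hx' : ∀ i, i < (R.frame R.b tz).length →
        Rep enc (x' i).1 ((R.frame R.b tz).getD i idTable) := by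
      intro i hi
      simp only [Rigid.frame, List.length_cons, List.length_nil] at hi
      rcases i with _ | _ | _ | _ | _ | _ | _ | _ | i
      · exact ha
      · exact hb
      · exact hzR
      · exact hb
      · exact hc
      · exact ha2
      · exact hb2
      · exact hc2
      · omega
    have h8 : ∀ i ∈ List.replicate k0 0, i < (R.frame R.b tz).length := fun i hi => by
      rw [List.eq_of_mem_replicate hi]; simp [Rigid.frame]
    have hsingle : ∀ j, j < 8 → ∀ i ∈ [j], i < (R.frame R.b tz).length := fun j hj i hi => by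
      rw [List.mem_singleton.1 hi]; exact hj
    refine ⟨⟨γ, hγ⟩ * (g2 * g1), ?_⟩
    have hfin : ∀ u : H, (⟨γ, hγ⟩ * (g2 * g1)) * φ u * (⟨γ, hγ⟩ * (g2 * g1))⁻¹ =
        (⟨γ, hγ⟩ : H) * χ u * (⟨γ, hγ⟩ : H)⁻¹ := by
      intro u
      change _ = _ * (g2 * (g1 * φ u * g1⁻¹) * g2⁻¹) * _
      group
    rcases hT with ⟨⟨hA, hB⟩, hC⟩ | ⟨⟨hA, hB⟩, hC⟩
    · left
      intro i
      rw [hfin]
      rcases i with _ | _ | i
      · have := wordConj_sound (γ := ⟨γ, hγ⟩) hx' rγ h8 (hsingle 0 (by norm_num)) hA
        simpa [ev_replicate, ev_cons, x', trip, hχa] using this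
      · have := wordConj_sound (γ := ⟨γ, hγ⟩) hx' rγ (hsingle 1 (by norm_num)) (hsingle 3 (by norm_num)) hB
        simpa [ev_cons, x', trip, hχb] using this
      · have := wordConj_sound (γ := ⟨γ, hγ⟩) hx' rγ (hsingle 2 (by norm_num)) (hsingle 4 (by norm_num)) hC
        simpa [ev_cons, x', trip] using this
    · right
      intro i
      rw [hfin]
      rcases i with _ | _ | i
      · have := wordConj_sound (γ := ⟨γ, hγ⟩) hx' rγ h8 (hsingle 5 (by norm_num)) hA
        simpa [ev_replicate, ev_cons, x', trip, hχa] using this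
      · have := wordConj_sound (γ := ⟨γ, hγ⟩) hx' rγ (hsingle 1 (by norm_num)) (hsingle 6 (by norm_num)) hB
        simpa [ev_cons, x', trip, hχb] using this
      · have := wordConj_sound (γ := ⟨γ, hγ⟩) hx' rγ (hsingle 2 (by norm_num)) (hsingle 7 (by norm_num)) hC
        simpa [ev_cons, x', trip] using this

end CfsgLib.SporadicOut
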