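import Cfsg.Agent.SporadicOut.Criterion
import Cfsg.Agent.SporadicOut.J1Words
import Cfsg.Agent.SporadicOut.Rigid

/-!
# `Cfsg.Spor.J1` has no outer automorphisms

`a` has order 11 and is self-centralising, `b` of order 10 induces all automorphisms of `⟨a⟩`; so
after an inner automorphism `a` and `b` are fixed. The centraliser of `d = b ^ 2` has order 30 by
Sylow counting and the element orders, and there `c` is pinned by a relation.
-/

set_option autoImplicit false
set_option linter.style.haveILetI false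

namespace CfsgLib.SporadicOut.J1Aut

open CfsgLib.J1 CfsgLib.Schur.Pc CfsgLib.SporadicOut.J1Words CfsgLib.SporadicOut.J1Data

/-- The element of order 11. -/
noncomputable def a : Cfsg.Spor.J1 := ev gen wA
/-- The element of order 10. -/
noncomputable def b : Cfsg.Spor.J1 := ev gen wB
/-- The element of order 3. -/
noncomputable def c : Cfsg.Spor.J1 := ev gen wC

/-- The word of a power. -/
def powW (w : List ℕ) (k : ℕ) : List ℕ := (List.replicate k w).flatten

theorem ev_powW (w : List ℕ) (k : ℕ) : (ev gen (powW w k) : Cfsg.Spor.J1) = ev gen w ^ k := by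
  induction k with
  | zero => simp [powW]
  | succ k ih =>
    simp only [powW] at ih ⊢
    rw [List.replicate_succ, List.flatten_cons, ev_append, ih, pow_succ']

theorem a_pow : a ^ 11 = 1 := by
  rw [a, ← ev_powW, ← ev_nil gen]; exact wEq_sound (by decide +kernel)

theorem a_ne : a ≠ 1 := by
  rw [a, ← ev_nil gen]; exact ev_ne_of_rows (by decide +kernel)

theorem orderOf_a : orderOf a = 11 := by
  haveI : Fact (Nat.Prime 11) := ⟨by norm_num⟩
  exact orderOf_eq_prime a_pow a_ne

theorem b_conj : b * a = a ^ 8 * b := by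
  rw [a, b, ← ev_powW, ← ev_append, ← ev_append]; exact wEq_sound (by decide +kernel)

theorem a_b : a * b = b * a ^ 7 := by
  rw [a, b, ← ev_powW, ← ev_append, ← ev_append]; exact wEq_sound (by decide +kernel)

/-- The centraliser of `a` is generated by `a`. -/
theorem mem_zpowers_of_commute {g : Cfsg.Spor.J1} (hg : Commute g a) :
    g ∈ Subgroup.zpowers a := by
  classical
  haveI : Finite Cfsg.Spor.J1 := Nat.finite_of_card_ne_zero (by rw [card_J1]; norm_num)
  haveI : Fact (Nat.Prime 11) := ⟨by norm_num⟩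
  let C := Subgroup.centralizer ({a} : Set Cfsg.Spor.J1)
  have hP : IsPGroup 11 C := by
    intro x
    have hxc : Commute (x : Cfsg.Spor.J1) a := (Subgroup.mem_centralizer_singleton_iff.mp x.2)
    have h := orderOf_mem (x : Cfsg.Spor.J1)
    by_cases hco : (orderOf (x : Cfsg.Spor.J1)).Coprime 11
    · have h2 := orderOf_mem ((x : Cfsg.Spor.J1) * a)
      rw [hxc.orderOf_mul_eq_mul_orderOf_of_coprime (by rwa [orderOf_a]), orderOf_a] at h2
      refine ⟨0, Subtype.ext ?_⟩
      have h1 : orderOf (x : Cfsg.Spor.J1) = 1 :=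
        (by decide : ∀ n ∈ [1, 2, 3, 5, 6, 7, 10, 11, 15, 19],
          n * 11 ∈ [1, 2, 3, 5, 6, 7, 10, 11, 15, 19] → n = 1) _ h h2
      simpa using orderOf_eq_one_iff.mp h1
    · refine ⟨1, Subtype.ext ?_⟩
      have h11 : orderOf (x : Cfsg.Spor.J1) = 11 :=
        (by decide : ∀ n ∈ [1, 2, 3, 5, 6, 7, 10, 11, 15, 19], ¬ Nat.Coprime n 11 → n = 11) _ h hco
      have hpo := pow_orderOf_eq_one (x : Cfsg.Spor.J1)
      rw [h11] at hpo
      simpa using hpo
  obtain ⟨k, hk⟩ := IsPGroup.iff_card.mp hP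
  have hd : Nat.card C ∣ 175560 := card_J1 ▸ Subgroup.card_subgroup_dvd_card C
  have hk1 : k ≤ 1 := by
    by_contra hk2
    rw [hk] at hd
    have h121 : 11 ^ 2 ∣ 175560 := (pow_dvd_pow 11 (by omega)).trans hd
    norm_num at h121
  have hle : Subgroup.zpowers a ≤ C :=
    Subgroup.zpowers_le.mpr (Subgroup.mem_centralizer_singleton_iff.mpr rfl)
  have : Subgroup.zpowers a = C := by
    refine Subgroup.eq_of_le_of_card_ge hle ?_
    rw [hk, Nat.card_zpowers, orderOf_a]
    exact (Nat.pow_le_pow_right (by norm_num) hk1).trans (by norm_num)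
  rw [this]
  exact Subgroup.mem_centralizer_singleton_iff.mpr hg

/-- After an inner automorphism, `a` and `b` are fixed. -/
theorem exists_fix (φ : MulAut Cfsg.Spor.J1) :
    ∃ g : Cfsg.Spor.J1, g * φ a * g⁻¹ = a ∧ g * φ b * g⁻¹ = b := by
  classical
  haveI : Finite Cfsg.Spor.J1 := Nat.finite_of_card_ne_zero (by rw [card_J1]; norm_num)
  haveI : Fact (Nat.Prime 11) := ⟨by norm_num⟩
  have hfac : (Nat.card Cfsg.Spor.J1).factorization 11 = 1 := by
    rw [card_J1, show (175560 : ℕ) = 11 * 15960 by norm_num,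
      Nat.factorization_mul (by norm_num) (by norm_num), Finsupp.add_apply,
      Nat.Prime.factorization_self (by norm_num),
      Nat.factorization_eq_zero_of_not_dvd (by norm_num)]
  have hsyl : ∀ u : Cfsg.Spor.J1, orderOf u = 11 →
      Nat.card (Subgroup.zpowers u) = 11 ^ (Nat.card Cfsg.Spor.J1).factorization 11 := by
    intro u hu; rw [Nat.card_zpowers, hu, hfac, pow_one]
  let P1 : Sylow 11 Cfsg.Spor.J1 := Sylow.ofCard _ (hsyl (φ a) (by rw [MulEquiv.orderOf_eq, orderOf_a]))
  let P2 : Sylow 11 Cfsg.Spor.J1 := Sylow.ofCard _ (hsyl a orderOf_a)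
  obtain ⟨g1, hg1⟩ := MulAction.exists_smul_eq Cfsg.Spor.J1 P1 P2
  have hmem : g1 * φ a * g1⁻¹ ∈ Subgroup.zpowers a := by
    have h2 : g1 * φ a * g1⁻¹ ∈ (↑(g1 • P1) : Subgroup Cfsg.Spor.J1) := by
      rw [Sylow.coe_subgroup_smul]
      exact Subgroup.smul_mem_pointwise_smul (φ a) (MulAut.conj g1) _ (Subgroup.mem_zpowers _)
    rw [hg1] at h2
    exact h2
  obtain ⟨k, hk, hka⟩ : ∃ k < 11, a ^ k = g1 * φ a * g1⁻¹ := by
    obtain ⟨k, hk, he⟩ := Finset.mem_image.1 (mem_zpowers_iff_mem_range_orderOf.1 hmem)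
    exact ⟨k, by simpa [orderOf_a] using hk, he⟩
  have hk0 : k ≠ 0 := by
    rintro rfl
    rw [pow_zero] at hka
    have : φ a = 1 := by
      rw [eq_comm, mul_inv_eq_one] at hka
      exact mul_left_cancel (hka.trans (mul_one g1).symm)
    exact a_ne (φ.injective (this.trans (map_one φ).symm))
  obtain ⟨m, hm, hmk⟩ : ∃ m < 10, k * 8 ^ m % 11 = 1 :=
    (by decide : ∀ k < 11, k ≠ 0 → ∃ m < 10, k * 8 ^ m % 11 = 1) k hk hk0
  have hconj : ∀ m n : ℕ, b ^ m * a ^ n * (b ^ m)⁻¹ = a ^ (n * 8 ^ m) := by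
    intro m
    induction m with
    | zero => simp
    | succ m ih =>
      intro n
      have e : b * a ^ (n * 8 ^ m) = a ^ (n * 8 ^ m * 8) * b := by
        have := (SemiconjBy.pow_right (show SemiconjBy b a (a ^ 8) from b_conj) (n * 8 ^ m)).eq
        rwa [← pow_mul, mul_comm 8] at this
      rw [pow_succ', mul_inv_rev,
        show b * b ^ m * a ^ n * ((b ^ m)⁻¹ * b⁻¹) = b * (b ^ m * a ^ n * (b ^ m)⁻¹) * b⁻¹ by group,
        ih, e, mul_inv_cancel_right, mul_assoc, ← pow_succ]
  let ψ : MulAut Cfsg.Spor.J1 := MulAut.conj (b ^ m * g1) * φ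
  have hψa : ψ a = a := by
    change b ^ m * g1 * φ a * (b ^ m * g1)⁻¹ = a
    rw [mul_inv_rev, show b ^ m * g1 * φ a * (g1⁻¹ * (b ^ m)⁻¹) =
      b ^ m * (g1 * φ a * g1⁻¹) * (b ^ m)⁻¹ by group, ← hka, hconj,
      pow_eq_pow_mod (k * 8 ^ m) a_pow, hmk, pow_one]
  have hψb : ψ b * a = a ^ 8 * ψ b := by
    have := congrArg ψ b_conj
    rwa [map_mul, map_mul, map_pow, hψa] at this
  have hcomm : Commute (b⁻¹ * ψ b) a := by
    show b⁻¹ * ψ b * a = a * (b⁻¹ * ψ b)
    have e : b⁻¹ * a ^ 8 = a * b⁻¹ := by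
      rw [eq_mul_inv_iff_mul_eq, mul_assoc, ← b_conj, inv_mul_cancel_left]
    rw [mul_assoc, hψb, ← mul_assoc, e, mul_assoc]
  obtain ⟨i, hi, hib⟩ : ∃ i < 11, a ^ i = b⁻¹ * ψ b := by
    obtain ⟨i, hi, he⟩ := Finset.mem_image.1
      (mem_zpowers_iff_mem_range_orderOf.1 (mem_zpowers_of_commute hcomm))
    exact ⟨i, by simpa [orderOf_a] using hi, he⟩
  refine ⟨a ^ (9 * i) * (b ^ m * g1), ?_, ?_⟩
  · change _ = a
    rw [show a ^ (9 * i) * (b ^ m * g1) * φ a * (a ^ (9 * i) * (b ^ m * g1))⁻¹ =
      a ^ (9 * i) * (b ^ m * g1 * φ a * (b ^ m * g1)⁻¹) * (a ^ (9 * i))⁻¹ by group]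
    change a ^ (9 * i) * ψ a * (a ^ (9 * i))⁻¹ = a
    rw [hψa, ← pow_succ, pow_succ', mul_inv_cancel_right]
  · rw [show a ^ (9 * i) * (b ^ m * g1) * φ b * (a ^ (9 * i) * (b ^ m * g1))⁻¹ =
      a ^ (9 * i) * (b ^ m * g1 * φ b * (b ^ m * g1)⁻¹) * (a ^ (9 * i))⁻¹ by group]
    change a ^ (9 * i) * ψ b * (a ^ (9 * i))⁻¹ = b
    have hpb : ψ b = b * a ^ i := by rw [hib, mul_inv_cancel_left]
    have hj : ∀ j : ℕ, a ^ j * b = b * a ^ (7 * j) := fun j => by
      have := ((show SemiconjBy b (a ^ 7) a from a_b.symm).pow_right j).eq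
      rw [← pow_mul] at this
      exact this.symm
    rw [hpb, ← mul_assoc, hj, mul_assoc b, ← pow_add]
    have hinv : (a ^ (9 * i))⁻¹ = a ^ (90 * i) := by
      refine inv_eq_of_mul_eq_one_right ?_
      rw [← pow_add, show 9 * i + 90 * i = 11 * (9 * i) by ring, pow_mul, a_pow, one_pow]
    rw [hinv, mul_assoc, ← pow_add, show 7 * (9 * i) + i + 90 * i = 11 * (14 * i) by ring, pow_mul,
      a_pow, one_pow, mul_one]

/-- Words of the centraliser of `b ^ 2`. -/
def centWords : List (List ℕ) :=
  (List.range 5).flatMap fun i => (List.range 2).flatMap fun j => (List.range 3).map fun k =>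
    powW wB (2 * i) ++ powW wB (5 * j) ++ powW wC k

/-- The centraliser of `d = b ^ 2` consists of the thirty listed words. -/
theorem mem_centWords {g : Cfsg.Spor.J1} (hg : Commute g (b ^ 2)) :
    ∃ w ∈ centWords, ev gen w = g := by
  haveI : Finite Cfsg.Spor.J1 := Nat.finite_of_card_ne_zero (by rw [card_J1]; norm_num)
  haveI : Fact (Nat.Prime 5) := ⟨by norm_num⟩
  let d := b ^ 2
  have hd : orderOf d = 5 := by
    refine orderOf_eq_prime ?_ ?_
    · rw [← pow_mul, b, ← ev_powW, ← ev_nil gen]; exact wEq_sound (by decide +kernel)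
    · rw [show d = ev gen wB ^ 2 from rfl, ← ev_powW, ← ev_nil gen]
      exact ev_ne_of_rows (by decide +kernel)
  let C := Subgroup.centralizer ({d} : Set Cfsg.Spor.J1)
  have hmem : ∀ w ∈ centWords, ev gen w ∈ C := by
    intro w hw
    rw [Subgroup.mem_centralizer_singleton_iff, show d = ev gen wB ^ 2 from rfl, ← ev_powW,
      ← ev_append, ← ev_append]
    exact wEq_sound ((by decide +kernel : ∀ w ∈ centWords,
      wEq (w ++ powW wB 2) (powW wB 2 ++ w) = true) w hw)
  have hge : 30 ≤ Nat.card C :=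
    le_card_of_rows_nodup C centWords hmem (by decide +kernel)
  have hprimes : ∀ q : ℕ, q.Prime → q ∣ Nat.card C → q ∣ 30 := by
    intro q hq hdvd
    haveI : Fact q.Prime := ⟨hq⟩
    obtain ⟨x, hx⟩ := exists_prime_orderOf_dvd_card' q hdvd
    rw [← Subgroup.orderOf_coe] at hx
    by_cases h5 : q = 5
    · subst h5; norm_num
    have hxd : Commute (x : Cfsg.Spor.J1) d := Subgroup.mem_centralizer_singleton_iff.mp x.2
    have hco : (orderOf (x : Cfsg.Spor.J1)).Coprime (orderOf d) := by
      rw [hx, hd]; exact (Nat.coprime_primes hq (by norm_num)).mpr h5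
    have h2 := orderOf_mem ((x : Cfsg.Spor.J1) * d)
    rw [hxd.orderOf_mul_eq_mul_orderOf_of_coprime hco, hd] at h2
    have h1 := orderOf_mem (x : Cfsg.Spor.J1)
    rw [← hx]
    exact (by decide : ∀ n ∈ [1, 2, 3, 5, 6, 7, 10, 11, 15, 19],
      n * 5 ∈ [1, 2, 3, 5, 6, 7, 10, 11, 15, 19] → n ∣ 30) _ h1 h2
  have hdiv : Nat.card C ∣ 175560 := card_J1 ▸ Subgroup.card_subgroup_dvd_card C
  let N := Subgroup.normalizer (Subgroup.zpowers d : Set Cfsg.Spor.J1)
  have hCN : C ≤ N := by
    intro x hx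
    rw [Subgroup.mem_centralizer_singleton_iff] at hx
    rw [Subgroup.mem_normalizer_iff]
    intro h
    have hfix : ∀ n : ℤ, x * d ^ n * x⁻¹ = d ^ n := fun n => by
      rw [(show Commute x d from hx).zpow_right n |>.eq, mul_inv_cancel_right]
    constructor
    · intro hh
      obtain ⟨n, rfl⟩ := Subgroup.mem_zpowers_iff.mp hh
      rw [hfix]; exact Subgroup.zpow_mem_zpowers d n
    · intro hh
      obtain ⟨n, hn⟩ := Subgroup.mem_zpowers_iff.mp hh
      rw [← hfix, mul_left_inj, mul_right_inj] at hn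
      rw [← hn]; exact Subgroup.zpow_mem_zpowers d n
  have hpow : ∀ x : N, ∃ k < 5, (x : Cfsg.Spor.J1) * d * (x : Cfsg.Spor.J1)⁻¹ = d ^ k := by
    intro x
    have := (Subgroup.mem_normalizer_iff.mp x.2 d).mp (Subgroup.mem_zpowers d)
    obtain ⟨k, hk, he⟩ := Finset.mem_image.1 (mem_zpowers_iff_mem_range_orderOf.1 this)
    exact ⟨k, by simpa [hd] using hk, he.symm⟩
  choose e he5 he using hpow
  have hidx : (C.subgroupOf N).index ≤ 4 := by
    have hne0 : ∀ x : N, e x ≠ 0 := by
      intro x h0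
      have := he x
      rw [h0, pow_zero, mul_inv_eq_one] at this
      have hd1 : d = 1 := mul_left_cancel (this.trans (mul_one _).symm)
      rw [hd1, orderOf_one] at hd
      norm_num at hd
    let f : N ⧸ C.subgroupOf N → Fin 4 := fun q => ⟨e q.out - 1, by have := he5 q.out; omega⟩
    have hf : Function.Injective f := by
      intro q q' hqq
      have h1 := hne0 q.out
      have h2 := hne0 q'.out
      have hv : e q.out - 1 = e q'.out - 1 := congrArg Fin.val hqq
      have heq : e q.out = e q'.out := by omega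
      rw [← QuotientGroup.out_eq' q, ← QuotientGroup.out_eq' q', QuotientGroup.eq,
        Subgroup.mem_subgroupOf]
      rw [Subgroup.mem_centralizer_singleton_iff, Subgroup.coe_mul, Subgroup.coe_inv, mul_assoc,
        inv_mul_eq_iff_eq_mul, ← mul_assoc]
      have h3 : (q'.out : Cfsg.Spor.J1) * d = d ^ e q'.out * q'.out :=
        mul_inv_eq_iff_eq_mul.mp (he q'.out)
      have h4 : (q.out : Cfsg.Spor.J1) * d = d ^ e q.out * q.out :=
        mul_inv_eq_iff_eq_mul.mp (he q.out)
      rw [h3, h4, heq]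
      group
    simpa [Subgroup.index] using Nat.card_le_card_of_injective f hf
  have hinv : ev gen wI ∈ N ∧ ev gen wI ∉ C := by
    have h4 : ev gen wI * d = d ^ 4 * ev gen wI := by
      rw [show d = ev gen wB ^ 2 from rfl, ← pow_mul, ← ev_powW, ← ev_powW, ← ev_append,
        ← ev_append]
      exact wEq_sound (by decide +kernel)
    refine ⟨?_, fun hC => ?_⟩
    · rw [Subgroup.mem_normalizer_iff]
      have hz : ∀ n : ℤ, ev gen wI * d ^ n * (ev gen wI)⁻¹ = d ^ (4 * n) := fun n => by
        rw [((show SemiconjBy (ev gen wI) d (d ^ 4) from h4).zpow_right n).eq, mul_inv_cancel_right,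
          ← zpow_natCast d 4, ← zpow_mul]; rfl
      intro h
      constructor
      · intro hh
        obtain ⟨n, rfl⟩ := Subgroup.mem_zpowers_iff.mp hh
        rw [hz]; exact Subgroup.zpow_mem_zpowers d _
      · intro hh
        obtain ⟨n, hn⟩ := Subgroup.mem_zpowers_iff.mp hh
        have h16 : d ^ (4 * (4 * n)) = d ^ n := by
          rw [zpow_eq_zpow_iff_modEq, hd]
          exact Int.modEq_iff_dvd.mpr ⟨-3 * n, by push_cast; ring⟩
        have : d ^ (4 * n) = h := by
          have e1 := hz (4 * n)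
          rw [h16, hn] at e1
          exact mul_left_cancel (mul_right_cancel e1)
        rw [← this]; exact Subgroup.zpow_mem_zpowers d _
    · rw [Subgroup.mem_centralizer_singleton_iff, h4, mul_left_inj] at hC
      have : d ^ 3 = 1 := mul_right_cancel (b := d) (by rw [← pow_succ, hC, one_mul])
      have := orderOf_dvd_of_pow_eq_one this
      rw [hd] at this
      norm_num at this
  have hne1 : (C.subgroupOf N).index ≠ 1 := by
    intro h
    rw [Subgroup.index_eq_one, Subgroup.subgroupOf_eq_top] at h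
    exact hinv.2 (h hinv.1)
  have hcardN : Nat.card N = Nat.card C * (C.subgroupOf N).index := by
    rw [← Nat.card_congr (Subgroup.subgroupOfEquivOfLe hCN).toEquiv, Subgroup.card_mul_index]
  have hfac : (Nat.card Cfsg.Spor.J1).factorization 5 = 1 := by
    rw [card_J1, show (175560 : ℕ) = 5 * 35112 by norm_num,
      Nat.factorization_mul (by norm_num) (by norm_num), Finsupp.add_apply,
      Nat.Prime.factorization_self (by norm_num),
      Nat.factorization_eq_zero_of_not_dvd (by norm_num)]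
  let P : Sylow 5 Cfsg.Spor.J1 := Sylow.ofCard _
    (show Nat.card (Subgroup.zpowers d) = 5 ^ (Nat.card Cfsg.Spor.J1).factorization 5 by
      rw [Nat.card_zpowers, hd, hfac, pow_one])
  have hmod : N.index % 5 = 1 := by
    have h := card_sylow_modEq_one 5 Cfsg.Spor.J1
    rw [P.card_eq_index_normalizer] at h
    exact h
  have hNidx : N.index * Nat.card N = 175560 := by rw [Subgroup.index_mul_card, card_J1]
  have hC30 : Nat.card C = 30 := by
    have hNdiv : Nat.card N ∣ 175560 := ⟨N.index, by rw [← hNidx, mul_comm]⟩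
    rw [hcardN] at hNidx hNdiv
    have hi0 : (C.subgroupOf N).index ≠ 0 := Subgroup.index_ne_zero_of_finite
    have h120 : Nat.card C ∣ 120 := by
      have hcop : (Nat.card C).Coprime 1463 := by
        refine Nat.coprime_of_dvd fun q hq h1 h2 => ?_
        have h3 := hprimes q hq h1
        have := Nat.dvd_gcd h3 h2
        norm_num at this
        exact hq.ne_one this
      exact hcop.dvd_of_dvd_mul_right (show Nat.card C ∣ 120 * 1463 from hdiv)
    have hle : Nat.card C ≤ 120 := Nat.le_of_dvd (by norm_num) h120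
    have key : ∀ c ∈ List.range 121, ∀ i ∈ List.range 5,
        c ∣ 120 ∧ 30 ≤ c ∧ 2 ≤ i ∧ c * i ∣ 175560 ∧ 175560 / (c * i) % 5 = 1 → c = 30 := by
      decide +kernel
    refine key _ (List.mem_range.2 (by omega)) _ (List.mem_range.2 (by omega))
      ⟨h120, hge, by omega, hNdiv, ?_⟩
    rw [← hNidx, Nat.mul_div_cancel _ (Nat.mul_pos (Nat.card_pos) (Nat.pos_of_ne_zero hi0))]
    exact hmod
  have hlen : centWords.length = 30 := by decide +kernel
  let f : Fin centWords.length → C := fun i => ⟨ev gen centWords[i], hmem _ (List.getElem_mem i.2)⟩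
  have hf : Function.Injective f := by
    intro i j h
    have h' := wordM_eq_of_ev_eq (congrArg Subtype.val h)
    refine Fin.ext (List.getElem_inj (h₀ := by simpa using i.2) (h₁ := by simpa using j.2)
      (by decide +kernel : (centWords.map fun w => mkRows (wordM w)).Nodup) |>.1 ?_)
    simp [show wordM centWords[(i : ℕ)] = wordM centWords[(j : ℕ)] from h']
  have hsurj : Function.Surjective f :=
    (hf.bijective_of_nat_card_le (by rw [hC30, Nat.card_fin, hlen])).2
  obtain ⟨i, hi⟩ := hsurj ⟨g, Subgroup.mem_centralizer_singleton_iff.mpr hg⟩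
  exact ⟨centWords[i], List.getElem_mem _, congrArg Subtype.val hi⟩

/-- No outer automorphisms. -/
theorem card_out : Nat.card (Cfsg.Out Cfsg.Spor.J1) = 1 := by
  have hgen : Subgroup.closure (Set.range (trip a b c)) = ⊤ := by
    rw [eq_top_iff]
    have hW : ∀ i : ℕ, trip a b c i = ev gen (([wA, wB, wC] : List (List ℕ)).getD (min i 2) []) := by
      intro i
      rcases i with _ | _ | i <;> simp [trip, a, b, c]
    have hsub : ∀ w : List ℕ, ev (fun i => trip a b c i) w ∈
        Subgroup.closure (Set.range (trip a b c)) :=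
      fun w => ev_mem _ fun i _ => Subgroup.subset_closure ⟨i, rfl⟩
    have hx : gen 0 ∈ Subgroup.closure (Set.range (trip a b c)) := by
      have h : ev (fun i => trip a b c i) genX = gen 0 := by
        rw [funext hW, ← ev_flatMap,
          show gen 0 = ev gen [0] by simp [ev_cons]]
        exact wEq_sound (by decide +kernel)
      exact h ▸ hsub genX
    have hy : gen 1 ∈ Subgroup.closure (Set.range (trip a b c)) := by
      have h : ev (fun i => trip a b c i) genY = gen 1 := by
        rw [funext hW, ← ev_flatMap,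
          show gen 1 = ev gen [1] by simp [ev_cons]]
        exact wEq_sound (by decide +kernel)
      exact h ▸ hsub genY
    rintro ⟨u, hu⟩ -
    have : ∃ v ∈ Subgroup.closure (Set.range (trip a b c)), (v : GL (Fin 7) (ZMod 11)) = u := by
      induction hu using Subgroup.closure_induction with
      | mem v hv =>
        rcases hv with rfl | rfl
        · exact ⟨_, hx, rfl⟩
        · exact ⟨_, hy, rfl⟩
      | one => exact ⟨1, one_mem _, rfl⟩
      | mul v w _ _ hv hw =>
        obtain ⟨v', hv', rfl⟩ := hv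
        obtain ⟨w', hw', rfl⟩ := hw
        exact ⟨v' * w', mul_mem hv' hw', rfl⟩
      | inv v _ hv =>
        obtain ⟨v', hv', rfl⟩ := hv
        exact ⟨v'⁻¹, inv_mem hv', rfl⟩
    obtain ⟨v, hv, e⟩ := this
    rwa [show v = (⟨u, hu⟩ : Cfsg.Spor.J1) from Subtype.ext e] at hv
  refine card_out_eq_one (trip a b c) hgen fun φ => ?_
  obtain ⟨g, hga, hgb⟩ := exists_fix φ
  let χ : MulAut Cfsg.Spor.J1 := MulAut.conj g * φ
  have hχa : χ a = a := hga
  have hχb : χ b = b := hgb
  have hzd : Commute (χ c) (b ^ 2) := by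
    have h : c * b ^ 2 = b ^ 2 * c := by
      rw [b, c, ← ev_powW, ← ev_append, ← ev_append]; exact wEq_sound (by decide +kernel)
    have := congrArg χ h
    rwa [map_mul, map_mul, map_pow, hχb] at this
  obtain ⟨w, hw, hwz⟩ := mem_centWords hzd
  have hc3 : (χ c) ^ 3 = 1 := by
    rw [← map_pow, show c ^ 3 = 1 by
      rw [c, ← ev_powW, ← ev_nil gen]; exact wEq_sound (by decide +kernel), map_one]
  have hrel : (a * b * χ c) ^ 15 = 1 := by
    have h := congrArg χ (show (a * b * c) ^ 15 = 1 by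
      rw [a, b, c, ← ev_append, ← ev_append, ← ev_powW, ← ev_nil gen]
      exact wEq_sound (by decide +kernel))
    rwa [map_pow, map_mul, map_mul, hχa, hχb, map_one] at h
  rw [← hwz] at hc3 hrel
  have hdec : wEq w wC = true := by
    have key : ∀ w ∈ centWords, wEq w wC = true ∨
        (mkRows (wordM (powW w 3)) != mkRows (wordM [])) = true ∨
        (mkRows (wordM (powW (wA ++ wB ++ w) 15)) != mkRows (wordM [])) = true := by decide +kernel
    rcases key w hw with h | h | h
    · exact h
    · exact absurd (by rw [ev_powW, ev_nil]; exact hc3) (ev_ne_of_rows h)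
    · exact absurd (by rw [ev_powW, ev_append, ev_append, ev_nil]; exact hrel) (ev_ne_of_rows h)
  refine ⟨g, fun i => ?_⟩
  rcases i with _ | _ | i
  · exact hga
  · exact hgb
  · exact hwz.symm.trans (wEq_sound hdec)

end CfsgLib.SporadicOut.J1Aut
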