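import Cfsg.Agent.SporadicOut.Rigid
import Cfsg.Agent.Mathieu.SmallOrders

/-!
# From checked data to the number of outer automorphisms
-/

set_option autoImplicit false

namespace CfsgLib.SporadicOut

open Cfsg CfsgLib.Mathieu CfsgLib.Schur.Pc

variable {H : Subgroup (Equiv.Perm GolayPt)}

theorem range_trip {M : Type*} (a b c : M) : Set.range (trip a b c) = {a, b, c} := by
  ext u
  constructor
  · rintro ⟨i, rfl⟩
    rcases i with _ | _ | i <;> simp [trip]
  · rintro (rfl | rfl | rfl)
    exacts [⟨0, rfl⟩, ⟨1, rfl⟩, ⟨2, rfl⟩]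

/-- Three members generate when the tables of a stabiliser chain come from a straight line program
in them. -/
theorem trip_generates {G : Subgroup (Equiv.Perm GolayPt)} (hHG : H ≤ G) (a b c : H) {A B C : ℕ}
    (ha : Rep enc a.1 A) (hb : Rep enc b.1 B) (hc : Rep enc c.1 C) (steps : List Step)
    (strong : List ℕ) (hstrong : strong.all (fun t => (slp 24 [A, B, C] steps).contains t) = true)
    (levels : List (GolayPt × Finset GolayPt)) (pre : List GolayPt) (hH : H ≤ fixList G pre)
    {H' : Subgroup (Equiv.Perm GolayPt)} (hchain : IsChain' H' G levels pre) (heq : fixList G pre ≤ H)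
    (trees : List (List (ℕ × ℕ × ℕ))) (hok : reachChainOK strong levels pre trees = true) :
    Subgroup.closure (Set.range (trip a b c)) = ⊤ := by
  refine Subgroup.map_injective H.subtype_injective ?_
  rw [MonoidHom.map_closure, ← MonoidHom.range_eq_map, Subgroup.range_subtype, ← Set.range_comp]
  have hK : Subgroup.closure (Set.range (H.subtype ∘ trip a b c)) ≤ H := by
    rw [Subgroup.closure_le]
    rintro _ ⟨i, rfl⟩
    exact (trip a b c i).2
  have hin : ∀ t ∈ [A, B, C],
      InGroup enc (Subgroup.closure (Set.range (H.subtype ∘ trip a b c))) t := by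
    intro t ht
    simp only [List.mem_cons, List.not_mem_nil, or_false] at ht
    rcases ht with rfl | rfl | rfl
    · exact ⟨a.1, Subgroup.subset_closure ⟨0, rfl⟩, ha⟩
    · exact ⟨b.1, Subgroup.subset_closure ⟨1, rfl⟩, hb⟩
    · exact ⟨c.1, Subgroup.subset_closure ⟨2, rfl⟩, hc⟩
  have hs : ∀ t ∈ strong, InGroup enc (Subgroup.closure (Set.range (H.subtype ∘ trip a b c))) t :=
    fun t ht => inGroup_slp enc steps _ hin t (List.contains_iff_mem.1 (List.all_eq_true.1 hstrong t ht))
  have hch := IsChain'.change levels pre hchain (isReachChain_of_ok hs levels pre trees hok)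
  exact le_antisymm hK ((hH).trans (hch.spec (hK.trans hHG) levels pre).1)

/-- No outer automorphism. -/
theorem out_eq_one_of_check (R : Rigid) (fixes : List ℕ) (hp : R.p.Prime) (hM : H ≤ M24)
    (hfix : ∀ g ∈ H, ∀ W ∈ fixes, (setOf24 W).image g = setOf24 W ∧ W < 2 ^ 24)
    {N : ℕ} (hN : Nat.card H = R.p * N) (hNp : ¬ R.p ∣ N) (hGS : ∀ t ∈ R.GS, InGroup enc H t)
    (hrels : ∀ l ∈ R.rels, ∀ i ∈ l.1 ++ l.2, i < 3) (a b c : H) (ha : Rep enc a.1 R.a)
    (hb : Rep enc b.1 R.b) (hc : Rep enc c.1 R.c)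
    (htgt : R.a2 = R.a ∧ R.b2 = R.b ∧ R.c2 = R.c)
    (hgen : Subgroup.closure (Set.range (trip a b c)) = ⊤) (hcheck : R.check fixes = true) :
    Nat.card (Cfsg.Out H) = 1 := by
  obtain ⟨h1, h2, h3⟩ := htgt
  refine card_out_eq_one (trip a b c) hgen fun φ => ?_
  obtain ⟨g, hg | hg⟩ := R.normal_form fixes hp hM hfix hN hNp hGS hrels a b c a b c ha hb hc
    (h1 ▸ ha) (h2 ▸ hb) (h3 ▸ hc) hcheck φ <;> exact ⟨g, hg⟩

/-- Conjugation by a permutation preserving `H`, restricted to `H`. -/
def conjAut (π : Equiv.Perm GolayPt) (h : ∀ g, g ∈ H ↔ π * g * π⁻¹ ∈ H) : MulAut H :=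
  conjEquivOfIff π h

/-- No element of `H` conjugates the triple to the second one. -/
def separated (R : Rigid) (k : ℕ) (L : List ℕ) (fixes : List ℕ) : Bool :=
  levelsOK fixes R.a R.levA 0 && search R.a k L R.levA [] &&
    wordEq (R.frame R.b R.c) (List.replicate k 0) [5] &&
    L.all fun g => !(wordConj (R.frame R.b R.c) g [1] [6] && wordConj (R.frame R.b R.c) g [2] [7])

theorem conjTable_eq {x y : H} {π : Equiv.Perm GolayPt} {h : ∀ g, g ∈ H ↔ π * g * π⁻¹ ∈ H}
    {P A A2 : ℕ} (hP : Rep enc π P) (hx : Rep enc x.1 A) (hy : Rep enc y.1 A2)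
    (hok : allBelow 24 (fun i => app P (app A i) == app A2 (app P i)) = true) :
    conjAut π h x = y := by
  simp only [allBelow_iff, beq_iff_eq] at hok
  refine Subtype.ext (Equiv.ext fun q => enc.injective (Fin.ext ?_))
  change (enc (π (x.1 (π⁻¹ q)))).val = _
  rw [← hP, ← hx, hok _ (enc (π⁻¹ q)).isLt, hP, perm_apply_inv, hy]

/-- Exactly one nontrivial class of outer automorphisms, given by conjugation by `π`. -/
theorem out_eq_two_of_check (R : Rigid) (fixes : List ℕ) (hp : R.p.Prime) (hM : H ≤ M24)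
    (hfix : ∀ g ∈ H, ∀ W ∈ fixes, (setOf24 W).image g = setOf24 W ∧ W < 2 ^ 24)
    {N : ℕ} (hN : Nat.card H = R.p * N) (hNp : ¬ R.p ∣ N) (hGS : ∀ t ∈ R.GS, InGroup enc H t)
    (hrels : ∀ l ∈ R.rels, ∀ i ∈ l.1 ++ l.2, i < 3) (a b c a2 b2 c2 : H) (ha : Rep enc a.1 R.a)
    (hb : Rep enc b.1 R.b) (hc : Rep enc c.1 R.c) (ha2 : Rep enc a2.1 R.a2)
    (hb2 : Rep enc b2.1 R.b2) (hc2 : Rep enc c2.1 R.c2)
    (π : Equiv.Perm GolayPt) (P : ℕ) (hP : Rep enc π P) (hπ : ∀ g, g ∈ H ↔ π * g * π⁻¹ ∈ H)
    (hconj : (allBelow 24 (fun i => app P (app R.a i) == app R.a2 (app P i)) &&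
      allBelow 24 (fun i => app P (app R.b i) == app R.b2 (app P i)) &&
      allBelow 24 (fun i => app P (app R.c i) == app R.c2 (app P i))) = true)
    (k : ℕ) (L : List ℕ) (hsep : separated R k L fixes = true)
    (hgen : Subgroup.closure (Set.range (trip a b c)) = ⊤) (hcheck : R.check fixes = true) :
    Nat.card (Cfsg.Out H) = 2 := by
  simp only [Bool.and_eq_true] at hconj
  obtain ⟨⟨e1, e2⟩, e3⟩ := hconj
  have hπx : ∀ i, conjAut π hπ (trip a b c i) = trip a2 b2 c2 i := by
    intro i
    rcases i with _ | _ | i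
    · exact conjTable_eq hP ha ha2 e1
    · exact conjTable_eq hP hb hb2 e2
    · exact conjTable_eq hP hc hc2 e3
  refine card_out_eq_two (trip a b c) hgen (conjAut π hπ) (fun φ => ?_) fun g => ?_
  · obtain ⟨g, hg | hg⟩ := R.normal_form fixes hp hM hfix hN hNp hGS hrels a b c a2 b2 c2 ha hb hc
      ha2 hb2 hc2 hcheck φ
    · exact ⟨g, Or.inl hg⟩
    · exact ⟨g, Or.inr fun i => (hg i).trans (hπx i).symm⟩
  · by_contra hall
    simp only [ne_eq, not_exists, not_not, hπx] at hall
    simp only [separated, Bool.and_eq_true, List.all_eq_true, Bool.not_eq_true'] at hsep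
    obtain ⟨⟨⟨hlev, hs⟩, hk⟩, hL⟩ := hsep
    let x' : ℕ → H := fun i => [a, b, c, b, c, a2, b2, c2].getD i 1
    have hx' : ∀ i, i < (R.frame R.b R.c).length →
        Rep enc (x' i).1 ((R.frame R.b R.c).getD i idTable) := by
      intro i hi
      simp only [Rigid.frame, List.length_cons, List.length_nil] at hi
      rcases i with _ | _ | _ | _ | _ | _ | _ | _ | i
      · exact ha
      · exact hb
      · exact hc
      · exact hb
      · exact hc
      · exact ha2
      · exact hb2
      · exact hc2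
      · omega
    have hrk : ∀ i ∈ List.replicate k 0, i < (R.frame R.b R.c).length := fun i hi => by
      rw [List.eq_of_mem_replicate hi]; simp [Rigid.frame]
    have hak : a ^ k = a2 := by
      have := (wordEq_iff hx' hrk (by simp [Rigid.frame])).1 hk
      simpa [ev_replicate, ev_cons, x'] using this
    have h0 : g * a * g⁻¹ = a2 := hall 0
    have hga : g * a = a ^ k * g := by
      rw [hak, ← h0]; group
    obtain ⟨t, ht, hgR⟩ := search_sound (g := g.1) ha (by simpa using congrArg Subtype.val hga)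
      (hM g.2) L fixes (hfix _ g.2) R.levA [] (by simp [Agrees]) (by simpa [domMask] using hlev) hs
    have key : ∀ i j, i < 8 → j < 8 → g * x' i * g⁻¹ = x' j →
        wordConj (R.frame R.b R.c) t [i] [j] = true := by
      intro i j hi hj he
      simp only [wordConj, allBelow_iff, beq_iff_eq]
      intro m hm
      rw [mul_inv_eq_iff_eq_mul] at he
      have := congrArg (fun u : H => (enc (u.1 (pt m))).val) he
      simp only [Subgroup.coe_mul, Equiv.Perm.coe_mul, Function.comp_apply] at this
      rw [← hgR, ← hx' i (by simpa [Rigid.frame] using hi), ← hx' j (by simpa [Rigid.frame] using hj),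
        ← hgR] at this
      change app t (app _ (idx (pt m))) = app _ (app t (idx (pt m))) at this
      rw [idx_pt hm] at this
      simpa [tImg] using this
    have := hL t ht
    rw [key 1 6 (by norm_num) (by norm_num) (hall 1), key 2 7 (by norm_num) (by norm_num) (hall 2)]
      at this
    simp at this

end CfsgLib.SporadicOut
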